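import Mathlib
import Cfsg.Agent.Lib.Classical.UnitaryTwistPoly

/-!
The algebras `F[X] ⧸ (Q)` with the inversion of `X`.
-/

set_option autoImplicit false
set_option linter.style.haveILetI false
set_option linter.unusedSectionVars false

namespace CfsgLib.Classical.SpClassBound

open Polynomial

section finiteRing

variable {R : Type*} [CommRing R] [Finite R] (τ : R →+* R)

/-- Multiplicative Hilbert 90 for an involution of a finite ring. -/
theorem exists_ratio (hτ : ∀ z, τ (τ z) = z) {c : R} (hc : IsUnit (c - τ c)) {s : R} (hs : s * τ s = 1) :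
    ∃ w : R, IsUnit w ∧ s * τ w = w := by
  classical
  let Mx := {m : Ideal R // m.IsMaximal}
  haveI : Finite (Ideal R) := Finite.of_injective (fun m : Ideal R => (m : Set R)) SetLike.coe_injective
  have hbij : Function.Bijective τ := ⟨fun x y h => by rw [← hτ x, h, hτ], fun y => ⟨τ y, hτ y⟩⟩
  let tm : Mx → Mx := fun m => ⟨Ideal.comap τ m.1, haveI := m.2; Ideal.comap_isMaximal_of_surjective τ hbij.2⟩
  have htm : ∀ m, tm (tm m) = m := fun m => Subtype.ext (Ideal.ext fun x => by simp [tm, Ideal.mem_comap, hτ])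
  obtain ⟨k, ⟨e⟩⟩ := Finite.exists_equiv_fin Mx
  have hsu : IsUnit s := IsUnit.of_mul_eq_one _ hs
  have hnot : ∀ (m : Mx) (u : R), IsUnit u → u ∉ m.1 := fun m u hu h =>
    m.2.ne_top (Ideal.eq_top_of_isUnit_mem _ h hu)
  have hchoice : ∀ m : Mx, ∃ t : R, t + s * τ t ∉ m.1 := by
    intro m
    by_cases h1 : 1 + s ∈ m.1
    · refine ⟨c, fun h2 => hnot m _ hc ?_⟩
      have h3 := Ideal.sub_mem _ h2 (Ideal.mul_mem_right (τ c) _ h1)
      convert h3 using 1
      ring
    · exact ⟨1, by rwa [map_one, mul_one]⟩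
  choose t ht using hchoice
  let T : Mx → R := fun m => if tm m = m then t m else if e m < e (tm m) then 1 else 0
  obtain ⟨z, hz⟩ := Ideal.exists_forall_sub_mem_ideal (I := fun m : Mx => m.1) (fun m m' h =>
    Ideal.isCoprime_iff_sup_eq.mpr (m.2.coprime_of_ne m'.2 fun e => h (Subtype.ext e))) T
  refine ⟨z + s * τ z, ?_, by rw [map_add, map_mul, hτ, mul_add, ← mul_assoc, hs, one_mul, add_comm]⟩
  by_contra hu
  obtain ⟨m, hm, hmem⟩ := exists_max_ideal_of_mem_nonunits hu
  set μ : Mx := ⟨m, hm⟩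
  have h1 : z - T μ ∈ m := hz μ
  have h2 : τ z - τ (T (tm μ)) ∈ m := by
    rw [← map_sub]
    exact hz (tm μ)
  have h3 : T μ + s * τ (T (tm μ)) ∈ m := by
    have := Ideal.sub_mem _ (Ideal.sub_mem _ hmem h1) (Ideal.mul_mem_left m s h2)
    convert this using 1
    ring
  by_cases hfix : tm μ = μ
  · simp only [T, hfix, if_pos] at h3
    exact ht μ h3
  · have hfix' : ¬ tm (tm μ) = tm μ := by rw [htm]; exact Ne.symm hfix
    rcases lt_trichotomy (e μ) (e (tm μ)) with hlt | heq | hgt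
    · simp only [T, if_neg hfix, if_pos hlt, if_neg hfix', htm, if_neg (not_lt.mpr hlt.le), map_zero, mul_zero,
        add_zero] at h3
      exact hnot μ 1 isUnit_one h3
    · exact hfix (e.injective heq.symm)
    · simp only [T, if_neg hfix, if_neg (not_lt.mpr hgt.le), if_neg hfix', htm, if_pos hgt, map_one, mul_one,
        zero_add] at h3
      exact hnot μ s hsu h3

/-- Every fixed unit is a norm. -/
theorem exists_norm_eq (hτ : ∀ z, τ (τ z) = z) {c : R} (hc : IsUnit (c - τ c)) {u : R} (hu : IsUnit u)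
    (hfix : τ u = u) : ∃ z : R, IsUnit z ∧ z * τ z = u := by
  classical
  let τu : Rˣ →* Rˣ := Units.map τ.toMonoidHom
  have hττ : ∀ z, τu (τu z) = z := fun z => Units.ext (hτ _)
  let N : Rˣ →* Rˣ := MonoidHom.id Rˣ * τu
  let D : Rˣ →* Rˣ := MonoidHom.id Rˣ / τu
  have hDN : N.ker = D.range := by
    ext s
    simp only [N, D, MonoidHom.mem_ker, MonoidHom.mem_range, MonoidHom.mul_apply, MonoidHom.div_apply, MonoidHom.id_apply]
    constructor
    · intro hs
      obtain ⟨w, hw, hsw⟩ := exists_ratio τ hτ hc (s := (s : R)) (congrArg Units.val hs)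
      obtain ⟨w, rfl⟩ := hw
      refine ⟨w, ?_⟩
      rw [div_eq_iff_eq_mul]
      exact Units.ext hsw.symm
    · rintro ⟨w, rfl⟩
      rw [_root_.map_div, hττ, div_mul_div_cancel, div_self']
  let Fx : Subgroup Rˣ := D.ker
  have hle : N.range ≤ Fx := by
    rintro _ ⟨z, rfl⟩
    simp only [Fx, N, D, MonoidHom.mem_ker, MonoidHom.mul_apply, MonoidHom.div_apply, MonoidHom.id_apply, map_mul, hττ]
    rw [div_mul_div_cancel, div_self']
  have heq : N.range = Fx := by
    refine Subgroup.eq_of_le_of_card_ge hle (le_of_eq ?_)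
    have h1 := N.ker.index_mul_card
    have h2 := D.ker.index_mul_card
    rw [Subgroup.index_ker] at h1 h2
    rw [hDN, mul_comm] at h1
    exact (Nat.eq_of_mul_eq_mul_left Nat.card_pos (h2.trans h1.symm))
  obtain ⟨u, rfl⟩ := hu
  have hmem : u ∈ N.range := by
    rw [heq]
    simp only [Fx, D, MonoidHom.mem_ker, MonoidHom.div_apply, MonoidHom.id_apply]
    rw [div_eq_one]
    exact Units.ext hfix.symm
  obtain ⟨z, hz⟩ := hmem
  exact ⟨z, z.isUnit, congrArg Units.val hz⟩

theorem sqrt_one_add_nilpotent {p : ℕ} [Fact p.Prime] [CharP R p] (hp : p ≠ 2) {j : R} (hj : IsNilpotent j)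
    (hfix : τ j = j) : ∃ s : R, s * s = 1 + j ∧ τ s = s := by
  obtain ⟨k, hk⟩ := hj
  have hpk : k ≤ p ^ k := (Nat.lt_pow_self (Fact.out : p.Prime).one_lt).le
  obtain ⟨m, hm⟩ := ((Nat.Prime.odd_of_ne_two Fact.out hp).pow : Odd (p ^ k))
  refine ⟨(1 + j) ^ (m + 1), ?_, by rw [map_pow, map_add, map_one, hfix]⟩
  rw [← pow_add, show m + 1 + (m + 1) = p ^ k + 1 by omega, pow_succ, add_pow_char_pow, one_pow,
    pow_eq_zero_of_le hpk hk, add_zero, one_mul]

theorem isUnit_of_mul_eq_zero_imp {u : R} (h : ∀ a, a * u = 0 → a = 0) : IsUnit u := by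
  have hinj : Function.Injective fun a => a * u := fun a b hab => sub_eq_zero.mp (h _ (by
    rw [sub_mul]; exact sub_eq_zero.mpr hab))
  obtain ⟨a, ha⟩ := (Finite.injective_iff_surjective.mp hinj) 1
  exact IsUnit.of_mul_eq_one _ ((mul_comm u a).trans ha)

end finiteRing

variable {K : Type*} [Field K]

/-- A polynomial proportional to its reciprocal, with non-zero constant. -/
def IsRecip (Q : K[X]) : Prop := Q.Monic ∧ Q.coeff 0 ≠ 0 ∧ Q.reverse = C (Q.coeff 0) * Q

theorem IsRecip.mul {P Q : K[X]} (hP : IsRecip P) (hQ : IsRecip Q) : IsRecip (P * Q) :=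
  ⟨hP.1.mul hQ.1, by rw [mul_coeff_zero]; exact mul_ne_zero hP.2.1 hQ.2.1, by
    rw [reverse_mul_of_domain, hP.2.2, hQ.2.2, mul_coeff_zero, C_mul]; ring⟩

theorem IsRecip.pow {P : K[X]} (hP : IsRecip P) : ∀ e : ℕ, IsRecip (P ^ e)
  | 0 => ⟨monic_one, by simp, by rw [pow_zero, ← C_1, reverse_C, coeff_C_zero, C_1, one_mul]⟩
  | e + 1 => by rw [pow_succ]; exact (IsRecip.pow hP e).mul hP

theorem isRecip_linear {c : K} (hc : c * c = 1) : IsRecip (X - C c) := by
  have hc0 : c ≠ 0 := left_ne_zero_of_mul_eq_one hc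
  refine ⟨monic_X_sub_C c, by simp [hc0], Polynomial.ext fun i => ?_⟩
  rw [coeff_reverse, natDegree_X_sub_C, coeff_C_mul]
  rcases i with _ | _ | i
  · simp [revAt_le zero_le_one, coeff_X, coeff_C, hc]
  · simp [revAt_le le_rfl, coeff_X, coeff_C]
  · simp [revAt_eq_self_of_lt (show 1 < i + 2 by omega), coeff_X]

/-- The twisted reciprocal for the identity. -/
noncomputable def star (P : K[X]) : K[X] := UnitaryTwistPoly.tw (RingHom.id K) P

theorem isRecip_of_star {P : K[X]} (hm : P.Monic) (h0 : P.coeff 0 ≠ 0) (h : star P = P) : IsRecip P := by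
  refine ⟨hm, h0, ?_⟩
  have h' : C (P.coeff 0)⁻¹ * P.reverse = P := by simpa [star, UnitaryTwistPoly.tw] using h
  calc P.reverse = C (P.coeff 0) * (C (P.coeff 0)⁻¹ * P.reverse) := by
        rw [← mul_assoc, ← C_mul, mul_inv_cancel₀ h0, C_1, one_mul]
    _ = _ := by rw [h']

theorem isRecip_mul_star {P : K[X]} (hm : P.Monic) (h0 : P.coeff 0 ≠ 0) : IsRecip (P * star P) := by
  have hsm : (star P).Monic := UnitaryTwistPoly.monic_tw _ h0
  have hs0 : (star P).coeff 0 ≠ 0 := by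
    rw [star, UnitaryTwistPoly.coeff_zero_tw _ hm h0]; simp [h0]
  refine isRecip_of_star (hm.mul hsm) (by rw [mul_coeff_zero]; exact mul_ne_zero h0 hs0) ?_
  show UnitaryTwistPoly.tw _ (P * UnitaryTwistPoly.tw _ P) = P * UnitaryTwistPoly.tw _ P
  rw [UnitaryTwistPoly.tw_mul, UnitaryTwistPoly.tw_tw _ (fun _ => rfl) hm h0, mul_comm]

section algebra

variable {Q : K[X]}

/-- The inverse of the root. -/
noncomputable def xinv (Q : K[X]) : AdjoinRoot Q := AdjoinRoot.mk Q (-C (Q.coeff 0)⁻¹ * Q.divX)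

theorem root_mul_xinv (h : IsRecip Q) : AdjoinRoot.root Q * xinv Q = 1 := by
  have e : AdjoinRoot.mk Q (X * Q.divX + C (Q.coeff 0)) = 0 := by rw [X_mul_divX_add, AdjoinRoot.mk_self]
  rw [xinv, ← AdjoinRoot.mk_X, ← map_mul, ← sub_eq_zero, ← map_one (AdjoinRoot.mk Q), ← map_sub,
    show X * (-C (Q.coeff 0)⁻¹ * Q.divX) - 1 = -C (Q.coeff 0)⁻¹ * (X * Q.divX + C (Q.coeff 0)) by
      linear_combination (congrArg C (inv_mul_cancel₀ h.2.1)).trans C_1 - C_mul (a := (Q.coeff 0)⁻¹) (b := Q.coeff 0),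
    map_mul, e, mul_zero]

/-- The inversion. -/
noncomputable def tau (h : IsRecip Q) : AdjoinRoot Q →ₐ[K] AdjoinRoot Q :=
  AdjoinRoot.liftAlgHom Q (Algebra.ofId K (AdjoinRoot Q)) (xinv Q) (by
    letI : Invertible (xinv Q) := ⟨AdjoinRoot.root Q, root_mul_xinv h, by rw [mul_comm]; exact root_mul_xinv h⟩
    have e := Polynomial.eval₂_reverse_mul_pow (algebraMap K (AdjoinRoot Q)) (xinv Q) Q
    rw [show (⅟(xinv Q)) = AdjoinRoot.root Q from rfl, h.2.2, eval₂_mul, AdjoinRoot.algebraMap_eq,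
      AdjoinRoot.eval₂_root, mul_zero, zero_mul] at e
    rw [show ((Algebra.ofId K (AdjoinRoot Q)) : K →+* AdjoinRoot Q) = AdjoinRoot.of Q from rfl]
    exact e.symm)

theorem tau_root (h : IsRecip Q) : tau h (AdjoinRoot.root Q) = xinv Q := by
  simp [tau]

theorem tau_mk (h : IsRecip Q) (p : K[X]) : tau h (AdjoinRoot.mk Q p) = aeval (xinv Q) p := by
  rw [← AdjoinRoot.aeval_eq, ← Polynomial.aeval_algHom_apply, tau_root]

theorem tau_xinv (h : IsRecip Q) : tau h (xinv Q) = AdjoinRoot.root Q := by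
  refine (left_inv_eq_right_inv (a := xinv Q) (root_mul_xinv h) ?_).symm
  have e := congrArg (tau h) (root_mul_xinv h)
  rw [map_mul, map_one, tau_root] at e
  exact e

theorem tau_tau (h : IsRecip Q) (a : AdjoinRoot Q) : tau h (tau h a) = a := by
  have e : (tau h).comp (tau h) = AlgHom.id K _ :=
    AdjoinRoot.algHom_ext (by rw [AlgHom.comp_apply, tau_root, tau_xinv]; rfl)
  exact AlgHom.congr_fun e a

theorem tau_reverse (h : IsRecip Q) (P : K[X]) :
    tau h (AdjoinRoot.mk Q P) = xinv Q ^ P.natDegree * AdjoinRoot.mk Q P.reverse := by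
  letI : Invertible (xinv Q) := ⟨AdjoinRoot.root Q, root_mul_xinv h, by rw [mul_comm]; exact root_mul_xinv h⟩
  have e := Polynomial.eval₂_reverse_mul_pow (algebraMap K (AdjoinRoot Q)) (xinv Q) P
  rw [show (⅟(xinv Q)) = AdjoinRoot.root Q from rfl, ← Polynomial.aeval_def (AdjoinRoot.root Q), AdjoinRoot.aeval_eq] at e
  rw [tau_mk, Polynomial.aeval_def, ← e, mul_comm]

/-- The inversion of a reciprocal polynomial. -/
theorem tau_recip (h : IsRecip Q) {P : K[X]} (hP : IsRecip P) :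
    tau h (AdjoinRoot.mk Q P) = xinv Q ^ P.natDegree * algebraMap K _ (P.coeff 0) * AdjoinRoot.mk Q P := by
  rw [tau_reverse, hP.2.2, map_mul, AdjoinRoot.mk_C, mul_assoc]
  rfl

theorem isUnit_mk_of_coprime {a : K[X]} (ha : IsCoprime a Q) : IsUnit (AdjoinRoot.mk Q a) := by
  obtain ⟨u, v, huv⟩ := ha
  refine IsUnit.of_mul_eq_one (AdjoinRoot.mk Q u) ?_
  rw [← map_mul, mul_comm, ← map_one (AdjoinRoot.mk Q), AdjoinRoot.mk_eq_mk]
  exact ⟨-v, by linear_combination huv⟩

theorem exists_riesz (hQ : Q.Monic) (ψ : AdjoinRoot Q →ₗ[K] K) (hψ : ∀ a, (∀ r, ψ (r * a) = 0) → a = 0)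
    (f : AdjoinRoot Q →ₗ[K] K) : ∃ u, ∀ r, f r = ψ (r * u) := by
  have := hQ.finite_adjoinRoot
  let L : AdjoinRoot Q →ₗ[K] Module.Dual K (AdjoinRoot Q) :=
    { toFun := fun u => ψ ∘ₗ LinearMap.mulRight K u
      map_add' := fun u v => LinearMap.ext fun r => by simp [mul_add]
      map_smul' := fun c u => LinearMap.ext fun r => by simp }
  have hL : Function.Injective L := (injective_iff_map_eq_zero L).mpr fun u hu => hψ u fun r => by
    simpa [L] using LinearMap.congr_fun hu r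
  obtain ⟨u, hu⟩ := (LinearMap.injective_iff_surjective_of_finrank_eq_finrank (Subspace.dual_finrank_eq).symm).mp hL f
  exact ⟨u, fun r => (LinearMap.congr_fun hu r).symm⟩

end algebra

end CfsgLib.Classical.SpClassBound
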