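import Cfsg.Agent.Lib.Classical.SpClassBound.Decompose
import Cfsg.Agent.Lib.Classical.SympClassCount

/-!
Encoding lists of summand types by palindromic polynomials and bits.
-/

set_option autoImplicit false
set_option linter.style.haveILetI false
set_option linter.unusedSectionVars false

namespace CfsgLib.Classical.SpClassBound

open Polynomial UniqueFactorizationMonoid

open scoped _root_.Classical

variable {K : Type*} [Field K]

/-- The general part of a type at size `e`. -/
noncomputable def Key.genPart (e : ℕ) : Key K → K[X]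
  | .gen p e' => if e' = e then p else 1
  | _ => 1

/-- The product of the general parts. -/
noncomputable def genProd (l : List (Key K)) (e : ℕ) : K[X] := (l.map (Key.genPart e)).prod

/-- Half the multiplicity of a root in the encoding. -/
noncomputable def halfMult (l : List (Key K)) (c : K) (e : ℕ) : ℕ :=
  let a := l.count (.sgn c e true) + l.count (.sgn c e false)
  l.count (.pr c e) + if a % 2 = 0 ∧ Key.sgn c e false ∈ l then a / 2 - 1 else a / 2

/-- The two bits of a root in the encoding. -/
noncomputable def bit (l : List (Key K)) (c : K) (e : ℕ) (b : Bool) : Bool :=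
  let a := l.count (.sgn c e true) + l.count (.sgn c e false)
  if a % 2 = 0 then decide (Key.sgn c e false ∈ l)
  else if b then decide (Key.sgn c e false ∈ l) else decide (Key.sgn c e false ∉ l)

/-- The polynomial of a size. -/
noncomputable def codePoly (l : List (Key K)) (e : ℕ) : K[X] :=
  genProd l e * (X - C 1) ^ (2 * halfMult l 1 e) * (X - C (-1)) ^ (2 * halfMult l (-1) e)

theorem hat_monic {P : K[X]} (hm : P.Monic) (h0 : P.coeff 0 ≠ 0) : (hat P).Monic := (hat_recip hm h0).1

theorem star_hat_eq {P : K[X]} (hm : P.Monic) (h0 : P.coeff 0 ≠ 0) : hat (star P) = hat P := by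
  have hss : star (star P) = P := UnitaryTwistPoly.tw_tw _ (fun _ => rfl) hm h0
  by_cases h : star P = P
  · rw [h]
  · rw [hat, hat, if_neg (by rw [hss]; exact Ne.symm h), if_neg h, hss, mul_comm]

theorem hat_eq_of_dvd {P P' : K[X]} (hm : P.Monic) (hi : Irreducible P) (hm' : P'.Monic) (hi' : Irreducible P')
    (h0' : P'.coeff 0 ≠ 0) (h : P ∣ hat P') : hat P = hat P' := by
  have key : P ∣ P' → hat P = hat P' := fun hd => by
    rw [eq_of_monic_of_associated hm hm' (hi.associated_of_dvd hi' hd)]
  rw [hat] at h
  split_ifs at h with hs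
  · exact key h
  · rcases hi.prime.dvd_or_dvd h with h | h
    · exact key h
    · have hsm : (star P').Monic := UnitaryTwistPoly.monic_tw _ h0'
      have hss : star (star P') = P' := UnitaryTwistPoly.tw_tw _ (fun _ => rfl) hm' h0'
      have hu : ¬ IsUnit P := hi.not_isUnit
      obtain ⟨r, hr⟩ := h
      have hr0 : r.coeff 0 ≠ 0 ∧ P.coeff 0 ≠ 0 := by
        have := congrArg (fun f : K[X] => f.coeff 0) hr
        simp only [mul_coeff_zero, star, UnitaryTwistPoly.coeff_zero_tw _ hm' h0', RingHom.id_apply] at this
        constructor <;> intro h0 <;> simp [h0] at this <;> exact h0' this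
      have h1 : star P ∣ P' := by
        rw [← hss, hr]
        exact UnitaryTwistPoly.tw_dvd _ (dvd_mul_right _ _)
      have hdeg : 0 < (star P).natDegree := by
        rw [star, UnitaryTwistPoly.natDegree_tw _ hr0.2]; exact hi.natDegree_pos
      have hsP : star P = P' := by
        obtain ⟨t, ht⟩ := h1
        rcases hi'.isUnit_or_isUnit ht with hu' | hu'
        · have := natDegree_eq_zero_of_isUnit hu'; omega
        · exact eq_of_monic_of_associated (UnitaryTwistPoly.monic_tw _ hr0.2) hm' ⟨hu'.unit, ht.symm⟩
      rw [← hsP, star_hat_eq hm hr0.2]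

theorem count_hat {P P' : K[X]} (hm : P.Monic) (hi : Irreducible P) (h0 : P.coeff 0 ≠ 0) (hm' : P'.Monic)
    (hi' : Irreducible P') (h0' : P'.coeff 0 ≠ 0) :
    (normalizedFactors (hat P')).count P = if hat P' = hat P then 1 else 0 := by
  have hdvd : P ∣ hat P := by rw [hat]; split_ifs <;> simp
  by_cases h : hat P' = hat P
  · rw [if_pos h, h]
    refine le_antisymm ?_ (Multiset.one_le_count_iff_mem.mpr ((Polynomial.mem_normalizedFactors_iff
      (hat_monic hm h0).ne_zero).mpr ⟨hi, hm, hdvd⟩))
    by_cases hs : star P = P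
    · rw [hat, if_pos hs, normalizedFactors_irreducible hi, Multiset.count_singleton]
      split_ifs <;> omega
    · have hsm : (star P).Monic := UnitaryTwistPoly.monic_tw _ h0
      rw [hat, if_neg hs, normalizedFactors_mul hm.ne_zero hsm.ne_zero, Multiset.count_add,
        normalizedFactors_irreducible hi, hm.normalize_eq_self, Multiset.count_singleton_self,
        Multiset.count_eq_zero.mpr, add_zero]
      intro hmem
      obtain ⟨-, -, r, hr⟩ := (Polynomial.mem_normalizedFactors_iff hsm.ne_zero).mp hmem
      refine hs (eq_of_monic_of_dvd_of_natDegree_le hm hsm ⟨r, hr⟩ ?_)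
      rw [star, UnitaryTwistPoly.natDegree_tw _ h0]
  · rw [if_neg h, Multiset.count_eq_zero]
    intro hmem
    exact h (hat_eq_of_dvd hm hi hm' hi' h0' ((Polynomial.mem_normalizedFactors_iff
      (hat_monic hm' h0').ne_zero).mp hmem).2.2).symm

theorem genPart_facts {η : K} {k : Key K} (hk : k.Valid η) (e : ℕ) :
    IsRecip (k.genPart e) ∧ (k.genPart e).coeff 0 = 1 ∧ (k.genPart e).eval 1 ≠ 0 ∧ (k.genPart e).eval (-1) ≠ 0 := by
  have hone : IsRecip (1 : K[X]) ∧ (1 : K[X]).coeff 0 = 1 ∧ (1 : K[X]).eval 1 ≠ 0 ∧ (1 : K[X]).eval (-1) ≠ 0 :=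
    ⟨by simpa using (isRecip_linear (one_mul (1 : K))).pow 0, coeff_one_zero, by simp, by simp⟩
  match k, hk with
  | .gen p e', ⟨hp, _⟩ =>
    simp only [Key.genPart]
    split_ifs
    · have hev : ∀ c : K, c * c = 1 → p.eval c ≠ 0 := fun c hc h0 => by
        have h1 := (irreducible_X_sub_C c).coprime_iff_not_dvd.mp (hp.isCoprime hc)
        exact h1 (dvd_iff_isRoot.mpr h0)
      refine ⟨hp.recip, ?_, hev 1 (one_mul 1), hev (-1) (by rw [neg_mul_neg, one_mul])⟩
      have h := congrArg (eval (1 : K)) hp.recip.2.2
      rw [eval_mul, eval_C] at h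
      have hr : p.reverse.eval 1 = p.eval 1 := by
        letI : Invertible (1 : K) := invertibleOne
        simpa using Polynomial.eval₂_reverse_mul_pow (RingHom.id K) 1 p
      rw [hr] at h
      exact mul_right_cancel₀ (hev 1 (one_mul 1)) (h.symm.trans (one_mul _).symm)
    · exact hone
  | .sgn _ _ _, _ => exact hone
  | .pr _ _, _ => exact hone

theorem genProd_facts {η : K} {l : List (Key K)} (hl : ∀ k ∈ l, k.Valid η) (e : ℕ) :
    IsRecip (genProd l e) ∧ (genProd l e).coeff 0 = 1 ∧ (genProd l e).eval 1 ≠ 0 ∧ (genProd l e).eval (-1) ≠ 0 := by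
  induction l with
  | nil => exact ⟨by simpa [genProd] using (isRecip_linear (one_mul (1 : K))).pow 0, by simp [genProd], by simp [genProd], by simp [genProd]⟩
  | cons k l ih =>
    obtain ⟨h1, h2, h3, h4⟩ := ih fun x hx => hl x (List.mem_cons_of_mem _ hx)
    obtain ⟨g1, g2, g3, g4⟩ := genPart_facts (hl k List.mem_cons_self) e
    rw [genProd, List.map_cons, List.prod_cons]
    exact ⟨g1.mul h1, by rw [mul_coeff_zero, g2]; simpa [genProd] using h2, by rw [eval_mul]; exact mul_ne_zero g3 h3,
      by rw [eval_mul]; exact mul_ne_zero g4 h4⟩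

theorem genProd_cons (k : Key K) (l : List (Key K)) (e : ℕ) : genProd (k :: l) e = k.genPart e * genProd l e := rfl

theorem count_genProd {η : K} {l : List (Key K)} (hl : ∀ k ∈ l, k.Valid η) {P : K[X]} (hm : P.Monic)
    (hi : Irreducible P) (h0 : P.coeff 0 ≠ 0) (e : ℕ) :
    l.count (.gen (hat P) e) = (normalizedFactors (genProd l e)).count P := by
  induction l with
  | nil => simp [genProd]
  | cons k l ih =>
    have hl' := fun x hx => hl x (List.mem_cons_of_mem _ hx)
    rw [List.count_cons, ih hl', genProd_cons,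
      normalizedFactors_mul (genPart_facts (hl k List.mem_cons_self) e).1.1.ne_zero
        (genProd_facts hl' e).1.1.ne_zero, Multiset.count_add, add_comm]
    congr 1
    match k, hl k List.mem_cons_self with
    | .gen p e', ⟨⟨P', hm', hi', h0', _, _, hp⟩, _⟩ =>
      subst hp
      simp only [Key.genPart, beq_iff_eq, Key.gen.injEq]
      by_cases he : e' = e
      · rw [if_pos he, count_hat hm hi h0 hm' hi' h0']
        exact if_congr (and_iff_left he) rfl rfl
      · rw [if_neg he, normalizedFactors_one, Multiset.count_zero, if_neg fun h => he h.2]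
    | .sgn _ _ _, _ => simp [Key.genPart]
    | .pr _ _, _ => simp [Key.genPart]

theorem count_le_one {l : List (Key K)} (h : Norm l) (c : K) (e : ℕ) : l.count (.sgn c e false) ≤ 1 := by
  induction l with
  | nil => simp
  | cons k l ih =>
    obtain ⟨h1, h2⟩ := List.pairwise_cons.mp h
    rw [List.count_cons]
    by_cases hk : k = .sgn c e false
    · subst hk
      rw [List.count_eq_zero_of_not_mem fun hmem => h1 _ hmem ⟨c, e, rfl, rfl⟩]
      simp
    · have := ih h2
      simp [hk, this]

theorem rootMult_codePoly (h2 : (2 : K) ≠ 0) {η : K} {l : List (Key K)} (hl : ∀ k ∈ l, k.Valid η) (e : ℕ) :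
    (codePoly l e).rootMultiplicity 1 = 2 * halfMult l 1 e ∧
      (codePoly l e).rootMultiplicity (-1) = 2 * halfMult l (-1) e := by
  obtain ⟨hG, -, h1, hn1⟩ := genProd_facts hl e
  have hne : ((1 : K) ≠ -1) := fun h => h2 (by linear_combination h)
  have hA : ∀ (c : K) k, ((X - C c) ^ k) ≠ 0 := fun c k => pow_ne_zero _ (X_sub_C_ne_zero c)
  have hz : ∀ (c d : K) k, c ≠ d → ((X - C c) ^ k).rootMultiplicity d = 0 := fun c d k h =>
    rootMultiplicity_eq_zero (by simp [IsRoot, sub_eq_zero, h.symm])
  constructor
  · rw [codePoly, rootMultiplicity_mul (mul_ne_zero (mul_ne_zero hG.1.ne_zero (hA _ _)) (hA _ _)),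
      rootMultiplicity_mul (mul_ne_zero hG.1.ne_zero (hA _ _)), rootMultiplicity_eq_zero h1,
      rootMultiplicity_X_sub_C_pow, hz (-1) 1 _ hne.symm, zero_add, add_zero]
  · rw [codePoly, rootMultiplicity_mul (mul_ne_zero (mul_ne_zero hG.1.ne_zero (hA _ _)) (hA _ _)),
      rootMultiplicity_mul (mul_ne_zero hG.1.ne_zero (hA _ _)), rootMultiplicity_eq_zero hn1,
      rootMultiplicity_X_sub_C_pow, hz 1 (-1) _ hne, zero_add, zero_add]

/-- The encoding is injective on normalised lists. -/
theorem code_injective (h2 : (2 : K) ≠ 0) {l l' : List (Key K)} (hl : ∀ k ∈ l, k.Valid (-1 : K))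
    (hl' : ∀ k ∈ l', k.Valid (-1 : K)) (hn : Norm l) (hn' : Norm l')
    (hP : ∀ e, 1 ≤ e → codePoly l e = codePoly l' e)
    (hb : ∀ e, 1 ≤ e → Even e → ∀ b, bit l 1 e b = bit l' 1 e b ∧ bit l (-1) e b = bit l' (-1) e b) :
    l.Perm l' := by
  have hhalf : ∀ e, 1 ≤ e → halfMult l 1 e = halfMult l' 1 e ∧ halfMult l (-1) e = halfMult l' (-1) e := fun e he => by
    have h := rootMult_codePoly h2 hl e
    have h' := rootMult_codePoly h2 hl' e
    rw [hP e he] at h
    omega
  have hG : ∀ e, 1 ≤ e → genProd l e = genProd l' e := fun e he => by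
    have h := hP e he
    simp only [codePoly, (hhalf e he).1, (hhalf e he).2] at h
    exact mul_right_cancel₀ (pow_ne_zero _ (X_sub_C_ne_zero _)) (mul_right_cancel₀ (pow_ne_zero _ (X_sub_C_ne_zero _)) h)
  have hpar : ∀ e : ℕ, (-1 : K) * (-1) ^ e = -1 ↔ Even e := fun e => by
    rcases Nat.even_or_odd e with he | he
    · simp [he.neg_one_pow, he]
    · simp only [he.neg_one_pow, neg_mul_neg, one_mul, Nat.not_even_iff_odd.mpr he, iff_false]
      exact fun h => h2 (by linear_combination h)
  have hpar' : ∀ e : ℕ, (-1 : K) * (-1) ^ e = 1 → ¬ Even e := fun e h he => by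
    rw [(hpar e).mpr he] at h
    exact h2 (by linear_combination -h)
  refine List.perm_iff_count.mpr fun k => ?_
  by_cases hk : k.Valid (-1 : K)
  swap
  · rw [List.count_eq_zero_of_not_mem fun h => hk (hl k h), List.count_eq_zero_of_not_mem fun h => hk (hl' k h)]
  match k, hk with
  | .gen p e, ⟨⟨P, hm, hi, h0, _, _, hp⟩, he⟩ =>
    subst hp
    rw [count_genProd hl hm hi h0, count_genProd hl' hm hi h0, hG e he]
  | .sgn c e s, ⟨hc, he, hp⟩ =>
    have hev := (hpar e).mp hp
    have hpr : ∀ (m : List (Key K)), (∀ k ∈ m, k.Valid (-1 : K)) → m.count (.pr c e) = 0 := fun m hm =>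
      List.count_eq_zero_of_not_mem fun h => hpar' e (hm _ h).2.2 hev
    obtain ⟨hh, hb1, hb2⟩ : halfMult l c e = halfMult l' c e ∧ bit l c e true = bit l' c e true ∧
        bit l c e false = bit l' c e false := by
      rcases mul_self_eq_one_iff.mp hc with rfl | rfl
      · exact ⟨(hhalf e he).1, (hb e he hev true).1, (hb e he hev false).1⟩
      · exact ⟨(hhalf e he).2, (hb e he hev true).2, (hb e he hev false).2⟩
    have h1 := count_le_one hn c e
    have h1' := count_le_one hn' c e
    have hm1 : Key.sgn c e false ∈ l ↔ l.count (Key.sgn c e false) = 1 := by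
      rw [← List.one_le_count_iff]; omega
    have hm1' : Key.sgn c e false ∈ l' ↔ l'.count (Key.sgn c e false) = 1 := by
      rw [← List.one_le_count_iff]; omega
    simp only [halfMult, hpr l hl, hpr l' hl', zero_add, hm1, hm1'] at hh
    simp only [bit, if_true, Bool.false_eq_true, if_false, hm1, hm1'] at hb1 hb2
    cases s <;>
      split_ifs at hh hb1 hb2 <;>
      simp only [decide_eq_decide] at hb1 hb2 <;> omega
  | .pr c e, ⟨hc, he, hp⟩ =>
    have hev := hpar' e hp
    have hs : ∀ (m : List (Key K)) b, (∀ k ∈ m, k.Valid (-1 : K)) → m.count (.sgn c e b) = 0 := fun m b hm =>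
      List.count_eq_zero_of_not_mem fun h => hev ((hpar e).mp (hm _ h).2.2)
    obtain hh : halfMult l c e = halfMult l' c e := by
      rcases mul_self_eq_one_iff.mp hc with rfl | rfl
      · exact (hhalf e he).1
      · exact (hhalf e he).2
    simp only [halfMult, hs l _ hl, hs l' _ hl'] at hh
    simpa using hh

/-- The weight of the bits. -/
noncomputable def bitWeight (l : List (Key K)) (e : ℕ) : ℕ :=
  ((bit l 1 e true).toNat + (bit l 1 e false).toNat) + ((bit l (-1) e true).toNat + (bit l (-1) e false).toNat)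

theorem bit_sum {l : List (Key K)} (hn : Norm l) (c : K) (e : ℕ) :
    l.count (.sgn c e true) + l.count (.sgn c e false) + 2 * l.count (.pr c e) =
      2 * halfMult l c e + ((bit l c e true).toNat + (bit l c e false).toNat) := by
  have h1 := count_le_one hn c e
  have hm1 : Key.sgn c e false ∈ l ↔ l.count (Key.sgn c e false) = 1 := by
    rw [← List.one_le_count_iff]; omega
  simp only [halfMult, bit, hm1, if_true, Bool.false_eq_true, if_false]
  split_ifs <;> simp only [Bool.toNat, Bool.cond_decide] <;> split_ifs <;> omega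

theorem natDegree_codePoly {η : K} {l : List (Key K)} (hl : ∀ k ∈ l, k.Valid η) (e : ℕ) :
    (codePoly l e).natDegree =
      (l.map fun k => (k.genPart e).natDegree).sum + 2 * halfMult l 1 e + 2 * halfMult l (-1) e := by
  have hG : (genProd l e).natDegree = (l.map fun k => (k.genPart e).natDegree).sum := by
    induction l with
    | nil => simp [genProd]
    | cons k l ih =>
      have hl' := fun x hx => hl x (List.mem_cons_of_mem _ hx)
      rw [genProd_cons, (genPart_facts (hl k List.mem_cons_self) e).1.1.natDegree_mul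
        (genProd_facts hl' e).1.1, List.map_cons, List.sum_cons, ih hl']
  have hne := (genProd_facts hl e).1.1
  rw [codePoly, (hne.mul ((monic_X_sub_C _).pow _)).natDegree_mul ((monic_X_sub_C _).pow _),
    hne.natDegree_mul ((monic_X_sub_C _).pow _), natDegree_pow, natDegree_pow, natDegree_X_sub_C, natDegree_X_sub_C,
    hG, mul_one, mul_one]

/-- The dimension is read off the code. -/
theorem code_degree (h2 : (2 : K) ≠ 0) {η : K} {l : List (Key K)} (hl : ∀ k ∈ l, k.Valid η) (hn : Norm l) (N : ℕ)
    (hN : (l.map Key.dim).sum ≤ N) :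
    ∑ e ∈ Finset.Icc 1 N, e * ((codePoly l e).natDegree + bitWeight l e) = (l.map Key.dim).sum := by
  let piece : ℕ → Key K → ℕ := fun e k => (k.genPart e).natDegree +
    ((if k = .sgn 1 e true then 1 else 0) + (if k = .sgn 1 e false then 1 else 0) + 2 * (if k = .pr 1 e then 1 else 0)) +
    ((if k = .sgn (-1) e true then 1 else 0) + (if k = .sgn (-1) e false then 1 else 0) +
      2 * (if k = .pr (-1) e then 1 else 0))
  have hcount : ∀ (a : Key K) (m : List (Key K)), m.count a = (m.map fun k => if k = a then 1 else 0).sum :=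
    fun a m => by
      induction m with
      | nil => simp
      | cons k m ih => rw [List.count_cons, List.map_cons, List.sum_cons, ← ih, add_comm]; simp
  have hsum : ∀ e, (codePoly l e).natDegree + bitWeight l e = (l.map (piece e)).sum := fun e => by
    simp only [piece, List.sum_map_add, List.sum_map_mul_left, ← hcount, natDegree_codePoly hl e, bitWeight,
      bit_sum hn]
    omega
  have hne : ((1 : K) ≠ -1) := fun h => h2 (by linear_combination h)
  simp only [hsum]
  have hle : ∀ k ∈ l, k.dim ≤ N := fun k hk => (List.le_sum_of_mem (List.mem_map_of_mem hk)).trans hN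
  clear hsum hN hn
  induction l with
  | nil => simp
  | cons k l ih =>
    simp only [List.map_cons, List.sum_cons, mul_add, Finset.sum_add_distrib]
    rw [ih (fun x hx => hl x (List.mem_cons_of_mem _ hx)) (fun x hx => hle x (List.mem_cons_of_mem _ hx))]
    congr 1
    have hkv := hl k List.mem_cons_self
    have hkd := hle k List.mem_cons_self
    match k, hkv, hkd with
    | .gen p e', ⟨hp, he'⟩, hd =>
      obtain ⟨P, hm, hi, h0, _, _, rfl⟩ := hp
      simp only [Key.dim] at hd ⊢
      have hpos : 1 ≤ (hat P).natDegree := by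
        rw [hat]
        split_ifs
        · exact hi.natDegree_pos
        · rw [hm.natDegree_mul (show (star P).Monic from UnitaryTwistPoly.monic_tw _ h0)]
          exact le_add_right hi.natDegree_pos
      rw [Finset.sum_eq_single e']
      · simp [piece, Key.genPart]
      · intro e _ hne; simp [piece, Key.genPart, Ne.symm hne]
      · intro h
        exfalso
        refine h (Finset.mem_Icc.mpr ⟨he', le_trans ?_ hd⟩)
        exact Nat.le_mul_of_pos_right _ hpos
    | .sgn c e' s, ⟨hc, he', _⟩, hd =>
      simp only [Key.dim] at hd ⊢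
      rw [Finset.sum_eq_single e']
      · rcases mul_self_eq_one_iff.mp hc with rfl | rfl <;> cases s <;> simp [piece, Key.genPart, hne, hne.symm]
      · intro e _ hne'; simp [piece, Key.genPart, Ne.symm hne']
      · intro h; exact absurd (Finset.mem_Icc.mpr ⟨he', hd⟩) h
    | .pr c e', ⟨hc, he', _⟩, hd =>
      simp only [Key.dim] at hd ⊢
      rw [Finset.sum_eq_single e']
      · rcases mul_self_eq_one_iff.mp hc with rfl | rfl <;> simp [piece, Key.genPart, hne, hne.symm] <;> ring
      · intro e _ hne'; simp [piece, Key.genPart, Ne.symm hne']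
      · intro h; exact absurd (Finset.mem_Icc.mpr ⟨he', by omega⟩) h

/-- The code polynomials are palindromic. -/
theorem codePoly_pal (h2 : (2 : K) ≠ 0) {η : K} {l : List (Key K)} (hl : ∀ k ∈ l, k.Valid η) (e : ℕ) :
    ∃ D, SympClassCount.IsPal D (codePoly l e) := by
  obtain ⟨hG, hG0, hG1, hGn1⟩ := genProd_facts hl e
  have hH : IsRecip (codePoly l e) :=
    (hG.mul ((isRecip_linear (one_mul (1 : K))).pow _)).mul ((isRecip_linear (by norm_num : (-1 : K) * -1 = 1)).pow _)
  have hH0 : (codePoly l e).coeff 0 = 1 := by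
    rw [coeff_zero_eq_eval_zero, codePoly, eval_mul, eval_mul, ← coeff_zero_eq_eval_zero, hG0, eval_pow, eval_pow]
    simp [pow_mul]
  -- a palindromic polynomial without the root `-1` has even degree
  have hev : Even (genProd l e).natDegree := by
    by_contra hodd
    rw [Nat.not_even_iff_odd] at hodd
    letI : Invertible (-1 : K) := ⟨-1, by simp, by simp⟩
    have h := Polynomial.eval₂_reverse_mul_pow (RingHom.id K) (-1) (genProd l e)
    rw [show (⅟(-1 : K)) = -1 from rfl, hG.2.2, hG0, C_1, one_mul, hodd.neg_one_pow, mul_neg_one,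
      show eval₂ (RingHom.id K) (-1) (genProd l e) = (genProd l e).eval (-1) from rfl] at h
    have h4 : (2 : K) * (genProd l e).eval (-1) = 0 := by linear_combination -h
    exact hGn1 ((mul_eq_zero.mp h4).resolve_left h2)
  obtain ⟨d, hd⟩ : Even (codePoly l e).natDegree := by
    rw [codePoly, (hG.1.mul ((monic_X_sub_C _).pow _)).natDegree_mul ((monic_X_sub_C _).pow _),
      hG.1.natDegree_mul ((monic_X_sub_C _).pow _), natDegree_pow, natDegree_pow, natDegree_X_sub_C, natDegree_X_sub_C,
      mul_one, mul_one]
    exact (hev.add (even_two_mul _)).add (even_two_mul _)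
  exact ⟨d, hH.1, by rw [hd, two_mul], hH0, by rw [hH.2.2, hH0, C_1, one_mul]⟩

end CfsgLib.Classical.SpClassBound
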