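import Cfsg.Agent.Lib.Classical.SympClassCount

/-!
Counting the codes.
-/

set_option autoImplicit false
set_option linter.style.haveILetI false
set_option linter.unusedSectionVars false

namespace CfsgLib.Classical.SpClassBound

open Polynomial Finset

variable {K : Type*} [Field K] [Fintype K]

/-- The number of set bits. -/
def nbits (b : Fin 4 → Bool) : ℕ := ∑ j, (b j).toNat

/-- The codes of total weight `n`. -/
def Codes (K : Type*) [Field K] (m : ℕ) : Type _ :=
  {c : (Fin (2 * m + 1 + 1) → K[X]) × (Fin (m + 1) → Fin 4 → Bool) //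
    (∀ e, ∃ D, SympClassCount.IsPal D (c.1 e)) ∧
      ∑ e, (e.1 + 1) * (c.1 e).natDegree + ∑ i, 2 * ((i.1 + 1) * nbits (c.2 i)) = 2 * (m + 1)}

/-- The tail products. -/
theorem prod_tail_le {x c : ℚ} (hx0 : 0 ≤ x) (hx1 : x < 1) (hc : 1 ≤ c * (1 - x)) :
    ∀ N K0 : ℕ, 1 ≤ K0 → c * x ^ K0 < 1 →
      ∏ i ∈ range N, (1 + x ^ (K0 + i)) ≤ 1 / (1 - c * x ^ K0) ∧
        ∏ i ∈ range N, (1 / (1 - x ^ (K0 + i))) ≤ 1 / (1 - c * x ^ K0) := by
  have hc0 : 0 ≤ c := by nlinarith
  intro N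
  induction N with
  | zero =>
    intro K0 _ h
    have h0 : 0 ≤ c * x ^ K0 := by positivity
    have h1 : (1 : ℚ) ≤ 1 / (1 - c * x ^ K0) := (le_div_iff₀ (by linarith)).mpr (by linarith)
    simp only [range_zero, prod_empty]
    exact ⟨h1, h1⟩
  | succ N ih =>
    intro K0 hK h
    set y := x ^ K0 with hy
    have hy0 : 0 ≤ y := by positivity
    have hy1 : y < 1 := pow_lt_one₀ hx0 hx1 (by omega)
    have hxy : x ^ (K0 + 1) = y * x := pow_succ x K0
    have hlt : c * x ^ (K0 + 1) < 1 := by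
      rw [hxy]
      nlinarith [mul_le_of_le_one_right hy0 hx1.le]
    obtain ⟨h1, h2⟩ := ih (K0 + 1) (by omega) hlt
    rw [hxy] at hlt
    have hk : y * 1 ≤ y * (c * (1 - x)) := mul_le_mul_of_nonneg_left hc hy0
    have hq : 0 ≤ y * y * c := by positivity
    have hq2 : 0 ≤ y * y * c * x := by positivity
    constructor
    · rw [prod_range_succ', prod_congr rfl (g := fun i => 1 + x ^ (K0 + 1 + i)) fun i _ => by rw [show K0 + (i + 1) = K0 + 1 + i by omega],
        add_zero]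
      refine (mul_le_mul_of_nonneg_right h1 (by positivity)).trans ?_
      rw [hxy, div_mul_eq_mul_div, one_mul, div_le_div_iff₀ (by linarith) (by linarith)]
      nlinarith
    · rw [prod_range_succ', prod_congr rfl (g := fun i => 1 / (1 - x ^ (K0 + 1 + i))) fun i _ => by rw [show K0 + (i + 1) = K0 + 1 + i by omega],
        add_zero]
      refine (mul_le_mul_of_nonneg_right h2 (div_nonneg zero_le_one (by linarith))).trans ?_
      rw [hxy, div_mul_div_comm, one_mul, div_le_div_iff₀ (mul_pos (by linarith) (by linarith)) (by linarith)]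
      nlinarith

theorem prod_plus_le (N : ℕ) :
    ∏ i ∈ range N, (1 + (1 / 3 : ℚ) ^ (i + 1)) ≤
      (∏ i ∈ range 6, (1 + (1 / 3 : ℚ) ^ (i + 1))) * (1 / (1 - 3 / 2 * (1 / 3) ^ 7)) := by
  calc ∏ i ∈ range N, (1 + (1 / 3 : ℚ) ^ (i + 1)) ≤ ∏ i ∈ range (6 + N), (1 + (1 / 3 : ℚ) ^ (i + 1)) := by
        refine prod_le_prod_of_subset_of_one_le (range_subset_range.mpr (by omega)) (fun i _ => by positivity) fun i _ _ => ?_
        exact le_add_of_nonneg_right (by positivity)
    _ ≤ _ := by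
        rw [prod_range_add]
        refine mul_le_mul_of_nonneg_left ?_ (prod_nonneg fun i _ => by positivity)
        have h := (prod_tail_le (x := (1 / 3 : ℚ)) (c := 3 / 2) (by norm_num) (by norm_num) (by norm_num) N 7
          (by norm_num) (by norm_num)).1
        refine le_trans (le_of_eq (prod_congr rfl fun i _ => ?_)) h
        rw [show 6 + i + 1 = 7 + i by omega]

theorem prod_minus_le (N : ℕ) :
    ∏ i ∈ range N, (1 / (1 - (1 / 3 : ℚ) ^ (i + 1))) ≤
      (∏ i ∈ range 6, (1 / (1 - (1 / 3 : ℚ) ^ (i + 1)))) * (1 / (1 - 3 / 2 * (1 / 3) ^ 7)) := by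
  have hlt : ∀ i : ℕ, (1 / 3 : ℚ) ^ (i + 1) < 1 := fun i => pow_lt_one₀ (by norm_num) (by norm_num) (by omega)
  calc ∏ i ∈ range N, (1 / (1 - (1 / 3 : ℚ) ^ (i + 1))) ≤ ∏ i ∈ range (6 + N), (1 / (1 - (1 / 3 : ℚ) ^ (i + 1))) := by
        refine prod_le_prod_of_subset_of_one_le (range_subset_range.mpr (by omega))
          (fun i _ => div_nonneg zero_le_one (by linarith [hlt i])) fun i _ _ => ?_
        rw [le_div_iff₀ (by linarith [hlt i])]
        have : (0 : ℚ) ≤ (1 / 3) ^ (i + 1) := by positivity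
        linarith
    _ ≤ _ := by
        rw [prod_range_add]
        refine mul_le_mul_of_nonneg_left ?_ (prod_nonneg fun i _ => div_nonneg zero_le_one (by linarith [hlt i]))
        have h := (prod_tail_le (x := (1 / 3 : ℚ)) (c := 3 / 2) (by norm_num) (by norm_num) (by norm_num) N 7
          (by norm_num) (by norm_num)).2
        refine le_trans (le_of_eq (prod_congr rfl fun i _ => ?_)) h
        rw [show 6 + i + 1 = 7 + i by omega]

theorem numeric_bound (M N : ℕ) :
    (∏ i ∈ range M, (1 / (1 - (1 / 3 : ℚ) ^ (i + 1)))) * (∏ i ∈ range N, (1 + (1 / 3 : ℚ) ^ (i + 1))) ^ 4 ≤ 54 / 5 := by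
  have h0 : (0 : ℚ) ≤ ∏ i ∈ range N, (1 + (1 / 3 : ℚ) ^ (i + 1)) := prod_nonneg fun i _ => by positivity
  refine (mul_le_mul (prod_minus_le M) (pow_le_pow_left₀ h0 (prod_plus_le N) 4) (pow_nonneg h0 4) ?_).trans ?_
  · refine mul_nonneg (prod_nonneg fun i _ => div_nonneg zero_le_one ?_) (by norm_num)
    have : (1 / 3 : ℚ) ^ (i + 1) ≤ 1 := pow_le_one₀ (by norm_num) (by norm_num)
    linarith
  · norm_num [prod_range_succ]

theorem geom_le {y : ℚ} (h0 : 0 ≤ y) (h1 : y < 1) (N : ℕ) : ∑ d ∈ range N, y ^ d ≤ 1 / (1 - y) := by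
  rw [le_div_iff₀ (by linarith), geom_sum_mul_neg]
  linarith [pow_nonneg h0 N]

/-- There are at most `10.8 q ^ n` codes. -/
theorem card_codes {q : ℕ} (hq : Fintype.card K = q) (hq3 : 3 ≤ q) (m : ℕ) :
    Finite (Codes K m) ∧ 5 * Nat.card (Codes K m) ≤ 54 * q ^ (m + 1) := by
  classical
  let S := (Fin (2 * m + 1) → Fin (m + 2)) × (Fin (m + 1) → Fin 4 → Bool)
  let rest : S → ℕ := fun sh => ∑ e, (e.1 + 2) * (sh.1 e).1 + ∑ i, (i.1 + 1) * nbits (sh.2 i)
  let Dfull : S → Fin (2 * m + 1 + 1) → ℕ :=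
    fun sh => Fin.cons (m + 1 - rest sh) fun e => (sh.1 e).1
  let T := (sh : {sh : S // rest sh ≤ m + 1}) × (∀ e, {f : K[X] // SympClassCount.IsPal (Dfull sh.1 e) f})
  have hpal : ∀ d, Finite {f : K[X] // SympClassCount.IsPal d f} := fun d => by
    refine Nat.finite_of_card_ne_zero ?_
    rw [SympClassCount.card_pal hq]
    exact pow_ne_zero _ (by omega)
  have hT : Finite T := inferInstance
  choose D hD using fun (c : Codes K m) => c.2.1
  have hw : ∀ c : Codes K m, ∑ e, (e.1 + 1) * D c e + ∑ i, (i.1 + 1) * nbits (c.1.2 i) = m + 1 := fun c => by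
    have h := c.2.2
    rw [sum_congr rfl (g := fun e : Fin _ => 2 * ((e.1 + 1) * D c e)) fun e _ => by rw [(hD c e).2.1]; ring,
      ← mul_sum, ← mul_sum] at h
    omega
  have hDlt : ∀ c e, D c e < m + 2 := fun c e => by
    have h := single_le_sum (f := fun e : Fin (2 * m + 1 + 1) => (e.1 + 1) * D c e) (fun _ _ => Nat.zero_le _)
      (mem_univ e)
    have h' : D c e ≤ (e.1 + 1) * D c e := Nat.le_mul_of_pos_left _ (Nat.succ_pos _)
    have := hw c
    omega
  let sh : Codes K m → S := fun c => (fun e => ⟨D c e.succ, hDlt c _⟩, c.1.2)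
  have hrest : ∀ c, D c 0 + rest (sh c) = m + 1 := fun c => by
    have h := hw c
    rw [Fin.sum_univ_succ] at h
    simp only [Fin.val_zero, zero_add, one_mul, Fin.val_succ, add_assoc, Nat.reduceAdd] at h
    simp only [rest, sh]
    omega
  have hfull : ∀ c, Dfull (sh c) = D c := fun c => by
    funext e
    refine Fin.cases ?_ (fun i => ?_) e
    · simp only [Dfull, Fin.cons_zero]
      have := hrest c
      omega
    · simp only [Dfull, Fin.cons_succ, sh]
  let f : Codes K m → T := fun c =>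
    ⟨⟨sh c, by have := hrest c; omega⟩, fun e => ⟨c.1.1 e, by rw [hfull]; exact hD c e⟩⟩
  have hf : Function.Injective f := fun c c' e => by
    refine Subtype.ext (Prod.ext (funext fun i => congrArg (fun z : T => (z.2 i).1) e) ?_)
    exact congrArg (fun z : T => z.1.1.2) e
  refine ⟨Finite.of_injective f hf, ?_⟩
  have hcard := Nat.card_le_card_of_injective f hf
  have hTcard : Nat.card T = ∑ s : {sh : S // rest sh ≤ m + 1}, ∏ e, q ^ Dfull s.1 e := by
    rw [Nat.card_sigma]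
    refine sum_congr rfl fun s _ => ?_
    rw [Nat.card_pi]
    exact prod_congr rfl fun e _ => SympClassCount.card_pal hq
  set x : ℚ := 1 / 3
  let wgt : S → ℚ := fun sh => (∏ e, x ^ ((e.1 + 1) * (sh.1 e).1)) * ∏ i, ∏ j, x ^ ((i.1 + 1) * (sh.2 i j).toNat)
  have hterm : ∀ s : {sh : S // rest sh ≤ m + 1}, ((∏ e, q ^ Dfull s.1 e : ℕ) : ℚ) ≤ (q : ℚ) ^ (m + 1) * wgt s.1 := by
    rintro ⟨s, hs⟩
    rw [prod_pow_eq_pow_sum, Fin.sum_univ_succ]
    simp only [Dfull, Fin.cons_zero, Fin.cons_succ, wgt, prod_pow_eq_pow_sum, ← mul_sum, ← pow_add]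
    set Z := ∑ e : Fin (2 * m + 1), (e.1 + 1) * (s.1 e).1 + ∑ i : Fin (m + 1), (i.1 + 1) * nbits (s.2 i) with hZ
    have hr : rest s = Z + ∑ e, (s.1 e).1 := by
      simp only [rest, Z, add_mul, one_mul, sum_add_distrib, ← mul_sum]
      ring_nf
    have hx : (1 / (q : ℚ)) ^ Z ≤ x ^ Z := pow_le_pow_left₀ (by positivity)
      (one_div_le_one_div_of_le (by norm_num) (by exact_mod_cast hq3)) Z
    have hpow : ((q ^ (m + 1 - rest s + ∑ e, (s.1 e).1) : ℕ) : ℚ) = (q : ℚ) ^ (m + 1) * (1 / (q : ℚ)) ^ Z := by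
      have e : m + 1 = (m + 1 - rest s + ∑ e, (s.1 e).1) + Z := by omega
      rw [Nat.cast_pow]
      conv_rhs => rw [e, pow_add, mul_assoc, ← mul_pow, mul_one_div_cancel (by positivity), one_pow, mul_one]
    rw [hpow]
    exact mul_le_mul_of_nonneg_left hx (by positivity)
  have hsum : ∑ s : S, wgt s ≤ 54 / 5 := by
    simp only [wgt, S]
    rw [Fintype.sum_prod_type]
    dsimp only
    rw [← Finset.sum_mul_sum]
    rw [← Fintype.prod_sum (fun (e : Fin (2 * m + 1)) (d : Fin (m + 2)) => x ^ ((e.1 + 1) * d.1)),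
      ← Fintype.prod_sum (fun (i : Fin (m + 1)) (b : Fin 4 → Bool) => ∏ j, x ^ ((i.1 + 1) * (b j).toNat))]
    have h1 : ∀ i : Fin (m + 1), ∑ b : Fin 4 → Bool, ∏ j, x ^ ((i.1 + 1) * (b j).toNat) = (1 + x ^ (i.1 + 1)) ^ 4 := by
      intro i
      rw [← Fintype.prod_sum (fun (_ : Fin 4) (b : Bool) => x ^ ((i.1 + 1) * b.toNat))]
      simp [add_comm]
    have h2 : ∀ e : Fin (2 * m + 1), ∑ d : Fin (m + 2), x ^ ((e.1 + 1) * d.1) ≤ 1 / (1 - x ^ (e.1 + 1)) := fun e => by
      simp only [pow_mul]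
      rw [Fin.sum_univ_eq_sum_range (fun d => (x ^ (e.1 + 1)) ^ d)]
      exact geom_le (by positivity) (pow_lt_one₀ (by norm_num [x]) (by norm_num [x]) (by omega)) _
    refine le_trans (mul_le_mul_of_nonneg_right (prod_le_prod (fun e _ => sum_nonneg fun d _ => by positivity)
      fun e _ => h2 e) (prod_nonneg fun i _ => sum_nonneg fun b _ => prod_nonneg fun j _ => by positivity)) ?_
    rw [prod_congr rfl (fun i _ => h1 i), prod_pow, Fin.prod_univ_eq_prod_range (fun i => 1 / (1 - x ^ (i + 1))),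
      Fin.prod_univ_eq_prod_range (fun i => 1 + x ^ (i + 1))]
    exact numeric_bound _ _
  have hwpos : ∀ s : S, 0 ≤ wgt s := fun s => by positivity
  have h : (Nat.card (Codes K m) : ℚ) ≤ (q : ℚ) ^ (m + 1) * (54 / 5) := by
    refine le_trans (Nat.cast_le.mpr hcard) ?_
    rw [hTcard, Nat.cast_sum]
    refine le_trans (sum_le_sum fun s _ => hterm s) ?_
    rw [← mul_sum]
    refine mul_le_mul_of_nonneg_left (le_trans ?_ hsum) (by positivity)
    rw [← sum_subtype (univ.filter fun s => rest s ≤ m + 1) (fun s => by simp) wgt]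
    exact sum_le_sum_of_subset_of_nonneg (filter_subset _ _) fun s _ _ => hwpos s
  rw [← Nat.cast_le (α := ℚ)]
  push_cast
  linarith

end CfsgLib.Classical.SpClassBound
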