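import Cfsg.Agent.Lib.Classical.SpClassBound.Exists

/-!
Normalised decompositions of an isometry.
-/

set_option autoImplicit false
set_option linter.style.haveILetI false
set_option linter.unusedSectionVars false

namespace CfsgLib.Classical.SpClassBound

open Polynomial Module

variable {K : Type*} [Field K] {V : Type*} [AddCommGroup V] [Module K V] [FiniteDimensional K V]
  {g : V ≃ₗ[K] V} {B : LinearMap.BilinForm K V} {η : K}

/-- The conditions on a type. -/
def Key.Valid (η : K) : Key K → Prop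
  | .gen p e => GenP p ∧ 1 ≤ e
  | .sgn c e _ => c * c = 1 ∧ 1 ≤ e ∧ η * (-1) ^ e = -1
  | .pr c e => c * c = 1 ∧ 1 ≤ e ∧ η * (-1) ^ e = 1

theorem HasKey.valid {S : Submodule K V} {k : Key K} (h : HasKey g B η S k) : k.Valid η := by
  match k, h with
  | .gen p e, h => exact ⟨h.1, h.2.1⟩
  | .sgn c e s, h => exact ⟨h.1, h.2.1, h.2.2.1⟩
  | .pr c e, h => exact ⟨h.1, h.2.1, h.2.2.1⟩

/-- At most one negative sign of each type. -/
def Norm (l : List (Key K)) : Prop :=
  l.Pairwise fun a b => ¬ ∃ c e, a = Key.sgn c e false ∧ b = Key.sgn c e false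

theorem Norm.perm {l l' : List (Key K)} (h : Norm l) (hp : l.Perm l') : Norm l' :=
  (List.Perm.pairwise_iff (fun {a b} hab ⟨c, e, hb, ha⟩ => hab ⟨c, e, ha, hb⟩) hp).mp h

theorem Decomp.facts (hI : Isom B g η) {l : List (Key K)} : ∀ {W : Submodule K V}, Decomp g B η W l →
    (∀ k ∈ l, k.Valid η) ∧ finrank K W = (l.map Key.dim).sum := by
  induction l with
  | nil => intro W h; cases h; simp
  | cons k l ih =>
    intro W h
    cases h with
    | @cons S W' _ _ h1 h3 ho =>
      obtain ⟨hv, hd⟩ := ih h3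
      obtain ⟨-, hnd, hdS⟩ := hasKey_facts hI h1
      refine ⟨List.forall_mem_cons.mpr ⟨h1.valid, hv⟩, ?_⟩
      have hinf : S ⊓ W' = ⊥ := (Submodule.eq_bot_iff _).mpr fun x hx =>
        hnd x hx.1 fun s hs => hI.symm_zero (ho s hs x hx.2)
      have := Submodule.finrank_sup_add_finrank_inf_eq S W'
      rw [hinf, finrank_bot, add_zero] at this
      rw [this, hdS, hd, List.map_cons, List.sum_cons]

theorem Decomp.cons_inv {W : Submodule K V} {k : Key K} {l : List (Key K)} (h : Decomp g B η W (k :: l)) :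
    ∃ S W', HasKey g B η S k ∧ Decomp g B η W' l ∧ (∀ s ∈ S, ∀ w ∈ W', B s w = 0) ∧ W = S ⊔ W' := by
  cases h with
  | @cons S W' _ _ h1 h3 ho => exact ⟨S, W', h1, h3, ho, rfl⟩

variable [Finite K]

theorem merge_signs (h2 : (2 : K) ≠ 0) (hI : Isom B g η) {S S' : Submodule K V} {c : K} {e : ℕ}
    (h : HasKey g B η S (.sgn c e false)) (h' : HasKey g B η S' (.sgn c e false))
    (ho : ∀ s ∈ S, ∀ w ∈ S', B s w = 0) :
    ∃ T T' : Submodule K V, HasKey g B η T (.sgn c e true) ∧ HasKey g B η T' (.sgn c e true) ∧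
      T ⊔ T' = S ⊔ S' ∧ ∀ s ∈ T, ∀ w ∈ T', B s w = 0 := by
  classical
  letI := Fintype.ofFinite K
  obtain ⟨hc, he, hpar, v, hv, ha, hs, hS⟩ := h
  obtain ⟨-, -, -, w, hw, ha', hs', hS'⟩ := h'
  set hR := (isRecip_linear hc).pow e
  have hQ : ((monic_X_sub_C c).pow e : ((X - C c) ^ e).Monic) = hR.1 := rfl
  have hnd := fun a => nondeg_of_socle (e := e) (irreducible_X_sub_C c) (psi g B hR.1 v v) (by rwa [psi_pow_pred _ hv]) a
  have hnd' := fun a => nondeg_of_socle (e := e) (irreducible_X_sub_C c) (psi g B hR.1 w w) (by rwa [psi_pow_pred _ hw]) a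
  -- make the two functionals equal
  obtain ⟨u, hu, hfix, hr⟩ := exists_fixed_multiplier hI hI hR hw hv hnd' hnd
  obtain ⟨t, ht, hta⟩ := square_ratio ha' ha (hs.symm.trans hs')
  obtain ⟨z, hz, hzu⟩ := exists_sqrt h2 hc he u hfix (psi g B hR.1 w w) (by rwa [psi_pow_pred _ hw]) ht (by
    rw [← hr, psi_pow_pred _ hv, psi_pow_pred _ hw, hta])
  obtain ⟨hw1, hw2, hw3⟩ := exists_norm_generator hI hR hw hz hzu
  set w₁ := orb g hR.1 w z
  replace hw3 : ∀ r, psi g B hR.1 w₁ w₁ r = psi g B hR.1 v v r := fun r => by rw [hw3, hr]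
  have hSv : ∀ r, orb g hR.1 v r ∈ S := fun r => hS ▸ ⟨r, rfl⟩
  have hSw : ∀ r, orb g hR.1 w₁ r ∈ S' := fun r => by
    have hmem : orb g hR.1 w₁ r ∈ LinearMap.range (orb g hR.1 w₁) := ⟨r, rfl⟩
    rw [hw2] at hmem
    rw [hS']
    exact hmem
  have hcross : ∀ r s, B (orb g hR.1 v r) (orb g hR.1 w₁ s) = 0 ∧ B (orb g hR.1 w₁ s) (orb g hR.1 v r) = 0 :=
    fun r s => ⟨ho _ (hSv r) _ (hSw s), hI.symm_zero (ho _ (hSv r) _ (hSw s))⟩
  -- a non-square sum of two squares
  set a := B (act g ((X - C c) ^ (e - 1)) v) v with hadef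
  have hna : ¬ IsSquare a := fun h => Bool.false_ne_true (hs.mpr h)
  obtain ⟨p, hchar⟩ := CharP.exists K
  haveI : Fact p.Prime := ⟨CharP.char_is_prime K p⟩
  obtain ⟨x, y, hxy⟩ := FiniteField.exists_root_sum_quadratic (f := (X : K[X]) ^ 2) (g := (X : K[X]) ^ 2 - C a)
    (degree_X_pow 2) (degree_X_pow_sub_C two_pos a)
    (Nat.odd_iff.mp (Nat.odd_iff.mpr (FiniteField.odd_card_of_char_ne_two (fun h => h2 (by
      have := ringChar.Nat.cast_ringChar (R := K); rwa [h, Nat.cast_ofNat] at this)))))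
  simp only [eval_pow, eval_X, eval_sub, eval_C] at hxy
  have hxya : x * x + y * y = a := by linear_combination hxy
  set v₁ := x • v + y • w₁ with hv₁
  set v₂ := (-y) • v + x • w₁ with hv₂
  have hk1 : act g ((X - C c) ^ e) v₁ = 0 := by simp [hv₁, map_add, map_smul, hv, hw1]
  have hk2 : act g ((X - C c) ^ e) v₂ = 0 := by simp [hv₂, map_add, map_smul, hv, hw1]
  have horb : ∀ (α β : K) r, orb g hR.1 (α • v + β • w₁) r = α • orb g hR.1 v r + β • orb g hR.1 w₁ r := fun α β r => by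
    rw [orb_add_vec hR.1 (by rw [map_smul, hv, smul_zero]) (by rw [map_smul, hw1, smul_zero]), orb_smul_vec hR.1 hv,
      orb_smul_vec hR.1 hw1]
  have hB : ∀ (α β γ δ : K) r s, B (orb g hR.1 (α • v + β • w₁) r) (orb g hR.1 (γ • v + δ • w₁) s) =
      (α * γ + β * δ) * psi g B hR.1 v v (r * tau hR s) := fun α β γ δ r s => by
    simp only [horb, map_add, map_smul, LinearMap.add_apply, LinearMap.smul_apply, (hcross r s).1, (hcross s r).2,
      form_orb hI hR hv hv, form_orb hI hR hw1 hw1, hw3, smul_eq_mul]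
    ring
  have hval : ∀ (α β : K), α * α + β * β = a → ∀ hk : act g ((X - C c) ^ e) (α • v + β • w₁) = 0,
      B (act g ((X - C c) ^ (e - 1)) (α • v + β • w₁)) (α • v + β • w₁) = a * a := fun α β hab hk => by
    rw [← orb_mk hR.1 hk]
    conv_lhs => arg 2; rw [← orb_one hR.1 hk]
    rw [hB, map_one, mul_one, hab, psi_pow_pred _ hv]
  have hmk : ∀ (α β : K), α * α + β * β = a → act g ((X - C c) ^ e) (α • v + β • w₁) = 0 →
      HasKey g B η (LinearMap.range (orb g hR.1 (α • v + β • w₁))) (.sgn c e true) := fun α β hab hk =>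
    ⟨hc, he, hpar, _, hk, by rw [hval α β hab hk]; exact mul_ne_zero ha ha,
      by rw [hval α β hab hk]; simp [IsSquare.mul_self a], rfl⟩
  refine ⟨_, _, hmk x y hxya hk1, hmk (-y) x (by linear_combination hxya) hk2, le_antisymm (sup_le ?_ ?_) (sup_le ?_ ?_), ?_⟩
  · rintro _ ⟨r, rfl⟩
    rw [horb]
    exact Submodule.add_mem_sup (S.smul_mem _ (hSv r)) (S'.smul_mem _ (hSw r))
  · rintro _ ⟨r, rfl⟩
    rw [horb]
    exact Submodule.add_mem_sup (S.smul_mem _ (hSv r)) (S'.smul_mem _ (hSw r))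
  · intro s hs0
    rw [hS] at hs0
    obtain ⟨r, rfl⟩ := hs0
    have e1 : orb g hR.1 v r = (a⁻¹ * x) • orb g hR.1 v₁ r + (a⁻¹ * -y) • orb g hR.1 v₂ r := by
      simp only [hv₁, hv₂, horb, smul_add, smul_smul]
      rw [add_add_add_comm, ← add_smul, ← add_smul,
        show a⁻¹ * x * x + a⁻¹ * -y * -y = 1 by field_simp; linear_combination hxya,
        show a⁻¹ * x * y + a⁻¹ * -y * x = 0 by ring, one_smul, zero_smul, add_zero]
    change orb g hR.1 v r ∈ _
    rw [e1]
    exact Submodule.add_mem_sup (Submodule.smul_mem _ _ ⟨r, rfl⟩) (Submodule.smul_mem _ _ ⟨r, rfl⟩)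
  · intro s hs0
    rw [hS', show LinearMap.range (orb g ((monic_X_sub_C c).pow e) w) = _ from hw2.symm] at hs0
    obtain ⟨r, rfl⟩ := hs0
    have e1 : orb g hR.1 w₁ r = (a⁻¹ * y) • orb g hR.1 v₁ r + (a⁻¹ * x) • orb g hR.1 v₂ r := by
      simp only [hv₁, hv₂, horb, smul_add, smul_smul]
      rw [add_add_add_comm, ← add_smul, ← add_smul,
        show a⁻¹ * y * x + a⁻¹ * x * -y = 0 by ring,
        show a⁻¹ * y * y + a⁻¹ * x * x = 1 by field_simp; linear_combination hxya, one_smul, zero_smul, zero_add]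
    rw [e1]
    exact Submodule.add_mem_sup (Submodule.smul_mem _ _ ⟨r, rfl⟩) (Submodule.smul_mem _ _ ⟨r, rfl⟩)
  · rintro _ ⟨r, rfl⟩ _ ⟨s, rfl⟩
    rw [hB, show x * -y + y * x = 0 by ring, zero_mul]

/-- Every non-degenerate invariant subspace has a normalised decomposition. -/
theorem exists_decomp (h2 : (2 : K) ≠ 0) (hI : Isom B g η) : ∀ (d : ℕ) (W : Submodule K V), finrank K W ≤ d →
    (∀ x ∈ W, g x ∈ W) → Nd B W → ∃ l, Norm l ∧ Decomp g B η W l := by
  classical
  intro d
  induction d with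
  | zero =>
    intro W hd _ _
    rw [Submodule.finrank_eq_zero.mp (Nat.le_zero.mp hd)]
    exact ⟨[], List.Pairwise.nil, .nil⟩
  | succ d ih =>
    intro W hd hg hW
    by_cases hne : W = ⊥
    · subst hne; exact ⟨[], List.Pairwise.nil, .nil⟩
    obtain ⟨S, hSW, k, hk⟩ := exists_key hI h2 hg hW hne
    obtain ⟨hgS, hnS, hdS⟩ := hasKey_facts hI hk
    let W' : Submodule K V :=
      { carrier := {x | x ∈ W ∧ ∀ s ∈ S, B s x = 0}
        zero_mem' := ⟨W.zero_mem, fun s _ => map_zero _⟩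
        add_mem' := fun hx hy => ⟨W.add_mem hx.1 hy.1, fun s hs => by rw [map_add, hx.2 s hs, hy.2 s hs, add_zero]⟩
        smul_mem' := fun a x hx => ⟨W.smul_mem a hx.1, fun s hs => by rw [map_smul, hx.2 s hs, smul_zero]⟩ }
    have hsup : S ⊔ W' = W := by
      refine le_antisymm (sup_le hSW fun x hx => hx.1) fun x hx => ?_
      obtain ⟨s, hs, hse⟩ := exists_rep hI hnS (B.flip x)
      have : x - s ∈ W' := ⟨W.sub_mem hx (hSW hs), fun t ht => by
        rw [map_sub, hse t ht]; exact sub_self _⟩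
      simpa using Submodule.add_mem_sup hs this
    have hgW' : ∀ x ∈ W', g x ∈ W' := fun x hx => ⟨hg x hx.1, fun s hs => by
      rw [hI.apply_right]; exact hx.2 _ (stable_symm hgS s hs)⟩
    have hnW' : Nd B W' := fun x hx h => hW x hx.1 fun y hy => by
      rw [← hsup] at hy
      obtain ⟨s, hs, w, hw, rfl⟩ := Submodule.mem_sup.mp hy
      rw [map_add, hI.symm_zero (hx.2 s hs), h w hw, add_zero]
    have hinf : S ⊓ W' = ⊥ := (Submodule.eq_bot_iff _).mpr fun x hx =>
      hnS x hx.1 fun s hs => hI.symm_zero (hx.2.2 s hs)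
    have hdim := Submodule.finrank_sup_add_finrank_inf_eq S W'
    rw [hsup, hinf, finrank_bot, add_zero, hdS] at hdim
    have hpos : 1 ≤ k.dim := by
      rcases Nat.eq_zero_or_pos k.dim with h0 | h0
      · exfalso
        have hS0 : S = ⊥ := Submodule.finrank_eq_zero.mp (hdS.trans h0)
        match k, hk with
        | .gen p e, ⟨hp, he, _⟩ =>
          obtain ⟨P, hm, hi, hP0, -, -, rfl⟩ := hp
          simp only [Key.dim, mul_eq_zero] at h0
          rcases h0 with h0 | h0
          · omega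
          · rw [hat] at h0
            split_ifs at h0
            · have := hi.natDegree_pos; omega
            · rw [hm.natDegree_mul (show (star P).Monic from UnitaryTwistPoly.monic_tw _ hP0)] at h0
              have := hi.natDegree_pos
              omega
        | .sgn c e s, ⟨_, he, _⟩ => simp only [Key.dim] at h0; omega
        | .pr c e, ⟨_, he, _⟩ => simp only [Key.dim] at h0; omega
      · exact h0
    obtain ⟨l, hl, hdec⟩ := ih W' (by omega) hgW' hnW'
    by_cases hbad : ∃ c e, k = Key.sgn c e false ∧ Key.sgn c e false ∈ l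
    · obtain ⟨c, e, rfl, hmem⟩ := hbad
      obtain ⟨l₁, l₂, rfl⟩ := List.append_of_mem hmem
      have hp : (l₁ ++ Key.sgn c e false :: l₂).Perm (Key.sgn c e false :: (l₁ ++ l₂)) := List.perm_middle
      have hdec' := hdec.perm hI hp
      have hl' := (List.pairwise_cons.mp (hl.perm hp)).2
      obtain ⟨S', W'', hk', hdec'', ho', hWe⟩ := hdec'.cons_inv
      have hS'le : S' ≤ W' := hWe ▸ le_sup_left
      have hW''le : W'' ≤ W' := hWe ▸ le_sup_right
      · obtain ⟨T, T', hT, hT', hTT, hoT⟩ := merge_signs h2 hI hk hk'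
          (fun s hs w hw => (hS'le hw).2 s hs)
        have hTle : ∀ t, t ∈ T ⊔ T' → ∀ w ∈ W'', B t w = 0 := fun t ht w hw => by
          rw [hTT] at ht
          obtain ⟨s, hs, s', hs', rfl⟩ := Submodule.mem_sup.mp ht
          have h1 : B s w = 0 := (hW''le hw).2 s hs
          rw [map_add, LinearMap.add_apply, h1, ho' s' hs' w hw, add_zero]
        refine ⟨Key.sgn c e true :: Key.sgn c e true :: (l₁ ++ l₂), ?_, ?_⟩
        · refine List.pairwise_cons.mpr ⟨fun b _ ⟨c', e', h, _⟩ => by simp at h, List.pairwise_cons.mpr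
            ⟨fun b _ ⟨c', e', h, _⟩ => by simp at h, hl'⟩⟩
        · rw [← hsup, hWe, ← sup_assoc, ← hTT, sup_assoc]
          refine .cons hT (.cons hT' hdec'' fun s hs w hw => hTle s (Submodule.mem_sup_right hs) w hw)
            fun s hs w hw => ?_
          obtain ⟨t, ht, w', hw', rfl⟩ := Submodule.mem_sup.mp hw
          rw [map_add, hoT s hs t ht, hTle s (Submodule.mem_sup_left hs) w' hw', add_zero]
    · refine ⟨k :: l, List.pairwise_cons.mpr ⟨fun b hb ⟨c, e, h1, h3⟩ => hbad ⟨c, e, h1, h3 ▸ hb⟩, hl⟩, ?_⟩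
      rw [← hsup]
      exact .cons hk hdec fun s hs w hw => hw.2 s hs

end CfsgLib.Classical.SpClassBound
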