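import Cfsg.Agent.Lib.Classical.SpClassBound.Iso

/-!
Every isometry is an orthogonal sum of summands of the listed types.
-/

set_option autoImplicit false
set_option linter.style.haveILetI false
set_option linter.unusedSectionVars false

namespace CfsgLib.Classical.SpClassBound

open Polynomial Module

variable {K : Type*} [Field K] {V : Type*} [AddCommGroup V] [Module K V] [FiniteDimensional K V]
  {g : V ≃ₗ[K] V} {B : LinearMap.BilinForm K V} {η : K}

theorem star_pow (P : K[X]) : ∀ e : ℕ, star (P ^ e) = star P ^ e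
  | 0 => by
    rw [pow_zero, pow_zero, star, UnitaryTwistPoly.tw, Polynomial.map_one, coeff_one_zero, map_one, inv_one, map_one,
      one_mul, ← C_1, reverse_C]
  | e + 1 => by rw [pow_succ, pow_succ, ← star_pow P e]; exact UnitaryTwistPoly.tw_mul _ _ _

theorem stable_act {W : Submodule K V} (hg : ∀ x ∈ W, g x ∈ W) (p : K[X]) : ∀ x ∈ W, act g p x ∈ W := by
  induction p using Polynomial.induction_on' with
  | add p r hp hr => intro x hx; rw [act_add]; exact W.add_mem (hp x hx) (hr x hx)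
  | monomial k c =>
    induction k with
    | zero => intro x hx; rw [monomial_zero_left, act_C]; exact W.smul_mem c hx
    | succ k ih => intro x hx; rw [← monomial_mul_X, act_mul, act_X]; exact ih _ (hg x hx)

theorem stable_symm {W : Submodule K V} (hg : ∀ x ∈ W, g x ∈ W) : ∀ x ∈ W, g.symm x ∈ W := by
  intro x hx
  obtain ⟨⟨y, hy⟩, e⟩ := LinearMap.surjective_of_injective (f := (g : V →ₗ[K] V).restrict hg)
    (fun a b h => Subtype.ext (g.injective (congrArg Subtype.val h :))) ⟨x, hx⟩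
  have e' : g y = x := congrArg Subtype.val e
  rwa [← e', g.symm_apply_apply]

theorem orb_mem {W : Submodule K V} (hg : ∀ x ∈ W, g x ∈ W) {Q : K[X]} (hQ : Q.Monic) {v : V} (hvW : v ∈ W)
    (hv : act g Q v = 0) (r : AdjoinRoot Q) : orb g hQ v r ∈ W := by
  obtain ⟨b, rfl⟩ := AdjoinRoot.mk_surjective r
  rw [orb_mk hQ hv]
  exact stable_act hg b v hvW

theorem orb_range_le {W : Submodule K V} (hg : ∀ x ∈ W, g x ∈ W) {Q : K[X]} (hQ : Q.Monic) {v : V} (hvW : v ∈ W)
    (hv : act g Q v = 0) : LinearMap.range (orb g hQ v) ≤ W := by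
  rintro _ ⟨r, rfl⟩
  exact orb_mem hg hQ hvW hv r

theorem exists_rep (hI : Isom B g η) {W : Submodule K V} (hW : Nd B W) (f : Module.Dual K V) :
    ∃ w ∈ W, ∀ y ∈ W, B y w = f y := by
  let L : W →ₗ[K] Module.Dual K W :=
    { toFun := fun w => B.flip (w : V) ∘ₗ W.subtype
      map_add' := fun a b => LinearMap.ext fun y => by simp
      map_smul' := fun c a => LinearMap.ext fun y => by simp }
  have hL : Function.Injective L := (injective_iff_map_eq_zero L).mpr fun w hw => Subtype.ext (hW _ w.2 fun y hy =>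
    hI.symm_zero (LinearMap.congr_fun hw ⟨y, hy⟩))
  obtain ⟨⟨w, hwW⟩, hw⟩ := (LinearMap.injective_iff_surjective_of_finrank_eq_finrank
    (Subspace.dual_finrank_eq).symm).mp hL (f ∘ₗ W.subtype)
  exact ⟨w, hwW, fun y hy => LinearMap.congr_fun hw ⟨y, hy⟩⟩

theorem exists_irreducible_killer {W : Submodule K V} (hg : ∀ x ∈ W, g x ∈ W) (hW : W ≠ ⊥) :
    ∃ P : K[X], P.Monic ∧ Irreducible P ∧ P.coeff 0 ≠ 0 ∧ ∃ y ∈ W, y ≠ 0 ∧ act g P y = 0 := by
  classical
  obtain ⟨w, hwW, hw0⟩ := Submodule.exists_mem_ne_zero_of_ne_bot hW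
  have key : ∀ f : K[X], f ≠ 0 → ∀ w ∈ W, w ≠ 0 → act g f w = 0 →
      ∃ P : K[X], P.Monic ∧ Irreducible P ∧ ∃ y ∈ W, y ≠ 0 ∧ act g P y = 0 := by
    intro f
    induction f using UniqueFactorizationMonoid.induction_on_prime with
    | h₁ => intro h; exact absurd rfl h
    | h₂ x hx =>
      intro _ w _ hw0 hw
      obtain ⟨c, hc, rfl⟩ := Polynomial.isUnit_iff.mp hx
      rw [act_C, smul_eq_zero] at hw
      exact (hw.elim hc.ne_zero hw0).elim
    | h₃ a p ha hp ih =>
      intro _ w hwW hw0 hw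
      rw [act_mul] at hw
      by_cases hz : act g a w = 0
      · exact ih ha w hwW hw0 hz
      · refine ⟨normalize p, monic_normalize hp.ne_zero, (normalize_associated p).symm.irreducible hp.irreducible, _,
          stable_act hg a w hwW, hz, act_dvd (normalize_associated p).symm.dvd hw⟩
  obtain ⟨P, hm, hi, y, hyW, hy0, hy⟩ := key _ (LinearMap.charpoly_monic (g : Module.End K V)).ne_zero w hwW hw0 (by
    rw [act, LinearMap.aeval_self_charpoly, LinearMap.zero_apply])
  refine ⟨P, hm, hi, fun h0 => hy0 ?_, y, hyW, hy0, hy⟩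
  have hX : P = X := (eq_of_monic_of_associated monic_X hm
    (irreducible_X.associated_of_dvd hi (X_dvd_iff.mpr h0))).symm
  rw [hX, act_X] at hy
  exact g.map_eq_zero_iff.mp hy

theorem isUnit_or_nilpotent {P : K[X]} (hi : Irreducible P) (e : ℕ) (r : AdjoinRoot (P ^ e)) :
    IsUnit r ∨ IsNilpotent r := by
  obtain ⟨b, rfl⟩ := AdjoinRoot.mk_surjective r
  by_cases h : P ∣ b
  · exact Or.inr ⟨e, by rw [← map_pow, AdjoinRoot.mk_eq_zero]; exact pow_dvd_pow_of_dvd h e⟩
  · exact Or.inl (isUnit_mk_of_coprime ((hi.coprime_iff_not_dvd.mpr h).symm.pow_right))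

theorem pi_mul_nilpotent {P : K[X]} (hi : Irreducible P) {e : ℕ} (he : 1 ≤ e) {z : AdjoinRoot (P ^ e)}
    (hz : IsNilpotent z) : AdjoinRoot.mk (P ^ e) (P ^ (e - 1)) * z = 0 := by
  obtain ⟨b, rfl⟩ := AdjoinRoot.mk_surjective z
  obtain ⟨k, hk⟩ := hz
  rw [← map_pow, AdjoinRoot.mk_eq_zero] at hk
  obtain ⟨b', rfl⟩ := hi.prime.dvd_of_dvd_pow ((dvd_pow_self P (by omega)).trans hk)
  exact mk_pow_pred_mul he b'

theorem pi_mul_xinv {c : K} (hc : c * c = 1) {e : ℕ} (he : 1 ≤ e) :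
    AdjoinRoot.mk ((X - C c) ^ e) ((X - C c) ^ (e - 1)) * xinv ((X - C c) ^ e) =
      AdjoinRoot.mk ((X - C c) ^ e) ((X - C c) ^ (e - 1)) * algebraMap K _ c := by
  set π := AdjoinRoot.mk ((X - C c) ^ e) ((X - C c) ^ (e - 1))
  have h1 := mk_pow_pred_mul (P := X - C c) he 1
  rw [mul_one, map_sub, mul_sub, sub_eq_zero, AdjoinRoot.mk_X, AdjoinRoot.mk_C] at h1
  have h2 := root_mul_xinv ((isRecip_linear hc).pow e)
  have h3 : algebraMap K (AdjoinRoot ((X - C c) ^ e)) c * algebraMap K _ c = 1 := by rw [← map_mul, hc, map_one]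
  calc π * xinv ((X - C c) ^ e) = π * xinv ((X - C c) ^ e) * (algebraMap K _ c * algebraMap K _ c) := by rw [h3, mul_one]
    _ = (π * AdjoinRoot.of _ c) * (xinv ((X - C c) ^ e) * algebraMap K _ c) := by
      rw [AdjoinRoot.algebraMap_eq]; ring
    _ = (π * AdjoinRoot.root _) * (xinv ((X - C c) ^ e) * algebraMap K _ c) := by rw [h1]
    _ = π * (AdjoinRoot.root _ * xinv ((X - C c) ^ e)) * algebraMap K _ c := by ring
    _ = π * algebraMap K _ c := by rw [h2, mul_one]

theorem tau_pi {c : K} (hc : c * c = 1) {e : ℕ} (he : 1 ≤ e) :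
    tau ((isRecip_linear hc).pow e) (AdjoinRoot.mk ((X - C c) ^ e) ((X - C c) ^ (e - 1))) =
      algebraMap K _ ((-1) ^ (e - 1)) * AdjoinRoot.mk ((X - C c) ^ e) ((X - C c) ^ (e - 1)) := by
  have key : ∀ k : ℕ, AdjoinRoot.mk ((X - C c) ^ e) ((X - C c) ^ (e - 1)) * xinv ((X - C c) ^ e) ^ k =
      AdjoinRoot.mk ((X - C c) ^ e) ((X - C c) ^ (e - 1)) * algebraMap K _ c ^ k := fun k => by
    induction k with
    | zero => simp
    | succ k ih => rw [pow_succ, ← mul_assoc, ih, mul_right_comm, pi_mul_xinv hc he, pow_succ]; ring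
  rw [tau_recip _ ((isRecip_linear hc).pow (e - 1)), natDegree_pow, natDegree_X_sub_C, mul_one, mul_right_comm,
    mul_comm (xinv _ ^ _), key, ← map_pow, mul_assoc, ← map_mul, mul_comm]
  congr 2
  rw [coeff_zero_eq_eval_zero, eval_pow, eval_sub, eval_X, eval_C, zero_sub, ← mul_pow, mul_neg, hc]

variable (hI : Isom B g η)
include hI

/-- The partner of a vector of maximal exponent. -/
theorem exists_partner {W : Submodule K V} (hg : ∀ x ∈ W, g x ∈ W) (hW : Nd B W) {P : K[X]} (hm : P.Monic)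
    (h0 : P.coeff 0 ≠ 0) (hy : ∃ y ∈ W, y ≠ 0 ∧ act g P y = 0) :
    ∃ e, 1 ≤ e ∧ ∃ v ∈ W, ∃ w ∈ W, act g (P ^ e) v = 0 ∧ act g (star P ^ e) w = 0 ∧
      B (act g (P ^ (e - 1)) v) w ≠ 0 := by
  classical
  let ker : ℕ →o Submodule K V :=
    ⟨fun k => W ⊓ LinearMap.ker (act g (P ^ k)), fun a b hab =>
      inf_le_inf_left _ fun x hx => LinearMap.mem_ker.mpr (act_dvd (pow_dvd_pow P hab) (LinearMap.mem_ker.mp hx))⟩
  have hex : ∃ k, ∀ y ∈ W, act g (P ^ (k + 1)) y = 0 → act g (P ^ k) y = 0 := by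
    obtain ⟨k, hk⟩ := WellFoundedGT.monotone_chain_condition ker
    refine ⟨k, fun y hy h => ?_⟩
    have e := hk (k + 1) (Nat.le_succ k)
    have : y ∈ ker (k + 1) := ⟨hy, LinearMap.mem_ker.mpr h⟩
    rw [← e] at this
    exact LinearMap.mem_ker.mp this.2
  set e := Nat.find hex with he
  have hspec := Nat.find_spec hex
  have he1 : 1 ≤ e := by
    by_contra h
    obtain ⟨y, hyW, hy0, hyP⟩ := hy
    have h1 := hspec y hyW
    rw [← he, show e = 0 by omega, zero_add, pow_one, pow_zero, act_one] at h1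
    exact hy0 (h1 hyP)
  have hmin := Nat.find_min hex (show e - 1 < e by omega)
  push Not at hmin
  obtain ⟨v, hvW, hv, hv'⟩ := hmin
  rw [Nat.sub_add_cancel he1] at hv
  set x := act g (P ^ (e - 1)) v with hx
  have hxU : x ∉ W.map (act g (P ^ e)) := by
    rintro ⟨y, hyW, hyx⟩
    have h1 : act g (P ^ (e + 1)) y = 0 := by
      rw [pow_succ', act_mul, hyx, hx, ← act_mul, ← pow_succ', Nat.sub_add_cancel he1, hv]
    exact hv' (hyx ▸ hspec y hyW h1)
  obtain ⟨f, hfx, hf⟩ := Submodule.exists_le_ker_of_notMem hxU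
  obtain ⟨w, hwW, hw⟩ := exists_rep hI hW f
  refine ⟨e, he1, v, hvW, w, hwW, hv, ?_, by rw [hw _ (stable_act hg _ v hvW)]; exact hfx⟩
  have h0' : (P ^ e).coeff 0 ≠ 0 := by
    rw [coeff_zero_eq_eval_zero, eval_pow, ← coeff_zero_eq_eval_zero]; exact pow_ne_zero _ h0
  rw [← star_pow, ← act_symm_eq_zero_iff h0']
  refine hW _ (stable_act (stable_symm hg) _ w hwW) fun y hy => hI.symm_zero ?_
  rw [← hI.act_left, hw _ (stable_act hg _ y hy)]
  exact LinearMap.mem_ker.mp (hf (Submodule.mem_map_of_mem hy))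

/-- The hyperbolic summand. -/
theorem exists_key_hyperbolic {W : Submodule K V} (hg : ∀ x ∈ W, g x ∈ W) {P : K[X]} (hm : P.Monic)
    (hi : Irreducible P) (h0 : P.coeff 0 ≠ 0) (hs : star P ≠ P) (h1 : P.eval 1 ≠ 0) (hn1 : P.eval (-1) ≠ 0)
    {e : ℕ} (he : 1 ≤ e) {v w : V} (hvW : v ∈ W) (hwW : w ∈ W) (hv : act g (P ^ e) v = 0)
    (hw : act g (star P ^ e) w = 0) (hne : B (act g (P ^ (e - 1)) v) w ≠ 0) :
    ∃ S ≤ W, ∃ k : Key K, HasKey g B η S k := by
  have hsm : (star P).Monic := UnitaryTwistPoly.monic_tw _ h0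
  have hs0 : (star P).coeff 0 ≠ 0 := by rw [star, UnitaryTwistPoly.coeff_zero_tw _ hm h0]; simp [h0]
  have hss : star (star P) = P := UnitaryTwistPoly.tw_tw _ (fun _ => rfl) hm h0
  have hsi : Irreducible (star P) := by
    refine ⟨fun hu => hi.not_isUnit ?_, fun a b hab => ?_⟩
    · have e1 := natDegree_eq_zero_of_isUnit hu
      rw [star, UnitaryTwistPoly.natDegree_tw _ h0] at e1
      exact absurd e1 (by have := hi.natDegree_pos; omega)
    · have ha := UnitaryTwistPoly.coeff_zero_ne_of_dvd ⟨b, hab⟩ hs0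
      have hb := UnitaryTwistPoly.coeff_zero_ne_of_dvd (Dvd.intro_left a hab.symm) hs0
      have h := congrArg star hab
      rw [hss, star, UnitaryTwistPoly.tw_mul] at h
      have key : ∀ f : K[X], f.coeff 0 ≠ 0 → IsUnit (UnitaryTwistPoly.tw (RingHom.id K) f) → IsUnit f :=
        fun f hf hu => by
          rw [isUnit_iff_degree_eq_zero, degree_eq_natDegree (fun e => hf (by rw [e, coeff_zero])),
            ← UnitaryTwistPoly.natDegree_tw (RingHom.id K) hf, natDegree_eq_zero_of_isUnit hu]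
          rfl
      exact (hi.isUnit_or_isUnit h).imp (key a ha) (key b hb)
  have hcop : IsCoprime (star P ^ e) (P ^ e) :=
    (((hsi.coprime_iff_not_dvd).mpr fun hd => hs (eq_of_monic_of_associated hsm hm (hsi.associated_of_dvd hi hd))).pow)
  -- the kernels are totally isotropic
  have iso : ∀ R R' : K[X], star R' = R → R'.coeff 0 ≠ 0 → IsCoprime R' R → ∀ x y, act g R x = 0 → act g R y = 0 →
      B x y = 0 := by
    intro R R' hRR hR0 hc x y hx hy
    obtain ⟨a, b, hab⟩ := hc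
    have hy' : y = act g R' (act g a y) := by
      conv_lhs => rw [← act_one (g := g) y, ← hab, act_add, act_mul b, hy, map_zero, add_zero, mul_comm, act_mul]
    rw [hy']
    refine hI.symm_zero ?_
    rw [hI.act_left, (act_symm_eq_zero_iff hR0 x).mpr (by rw [hRR]; exact hx), map_zero]
  have hp0 : (star P ^ e).coeff 0 ≠ 0 := by
    rw [coeff_zero_eq_eval_zero, eval_pow, ← coeff_zero_eq_eval_zero]; exact pow_ne_zero _ hs0
  have hP0 : (P ^ e).coeff 0 ≠ 0 := by
    rw [coeff_zero_eq_eval_zero, eval_pow, ← coeff_zero_eq_eval_zero]; exact pow_ne_zero _ h0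
  have isoP := iso (P ^ e) (star P ^ e) (by rw [star_pow, hss]) hp0 hcop
  have isoS := iso (star P ^ e) (P ^ e) (star_pow P e) hP0 hcop.symm
  have hp : hat P = P * star P := by
    rw [hat]; exact if_neg hs
  have hR : IsRecip (hat P ^ e) := (hat_recip hm h0).pow e
  have hdiv : P ^ e ∣ hat P ^ e := pow_dvd_pow_of_dvd (by rw [hp]; exact dvd_mul_right _ _) e
  have hdiv' : star P ^ e ∣ hat P ^ e := pow_dvd_pow_of_dvd (by rw [hp]; exact dvd_mul_left _ _) e
  have hvQ := act_dvd hdiv hv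
  have hwQ := act_dvd hdiv' hw
  have hvwQ : act g (hat P ^ e) (v + w) = 0 := by rw [map_add, hvQ, hwQ, add_zero]
  refine ⟨_, orb_range_le hg hR.1 (W.add_mem hvW hwW) hvwQ, .gen (hat P) e, ⟨P, hm, hi, h0, h1, hn1, rfl⟩, he, hR,
    v + w, hvwQ, fun a ha => ?_, rfl⟩
  have hsplit : ∀ b, psi g B hR.1 (v + w) (v + w) (AdjoinRoot.mk _ b) = B (act g b v) w + B (act g b w) v := fun b => by
    rw [psi_apply, orb_mk hR.1 hvwQ, map_add (act g b), map_add (B _), map_add B, LinearMap.add_apply,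
      LinearMap.add_apply, isoP (act g b v) v (by rw [act_comm, hv, map_zero]) hv,
      isoS (act g b w) w (by rw [act_comm, hw, map_zero]) hw, add_zero, zero_add, add_comm]
  -- divisibility from the pairing
  have hdvd : ∀ b, (∀ t, B (act g (t * b) v) w = 0) → P ^ e ∣ b := fun b hb => by
    refine AdjoinRoot.mk_eq_zero.mp (nondeg_of_socle hi (psi g B (hm.pow e) v w) (by rwa [psi_pow_pred _ hv]) _
      fun r => ?_)
    obtain ⟨t, rfl⟩ := AdjoinRoot.mk_surjective r
    rw [← map_mul, psi_apply, orb_mk _ hv]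
    exact hb t
  obtain ⟨b, rfl⟩ := AdjoinRoot.mk_surjective a
  have hb1 : P ^ e ∣ b := hcop.symm.dvd_of_dvd_mul_left (hdvd (star P ^ e * b) fun t => by
    have h := ha (AdjoinRoot.mk _ (t * star P ^ e))
    rw [← map_mul, hsplit, show act g (t * star P ^ e * b) w = 0 from act_dvd ⟨t * b, by ring⟩ hw, map_zero,
      LinearMap.zero_apply, add_zero, mul_assoc] at h
    exact h)
  -- the same for the inverse
  obtain ⟨b', hb'⟩ := AdjoinRoot.mk_surjective (tau hR (AdjoinRoot.mk (hat P ^ e) b))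
  have hxu : IsUnit (xinv (hat P ^ e)) := IsUnit.of_mul_eq_one _ ((mul_comm _ _).trans (root_mul_xinv hR))
  have hb2 : P ^ e ∣ b' := hcop.symm.dvd_of_dvd_mul_left (hdvd (star P ^ e * b') fun t => by
    obtain ⟨t', ht'⟩ := AdjoinRoot.mk_surjective (tau hR (AdjoinRoot.mk (hat P ^ e) (t * star P ^ e)))
    have hdv : act g (t' * b) v = 0 := act_dvd (dvd_mul_of_dvd_right hb1 t') hv
    have h := ha (AdjoinRoot.mk _ t')
    rw [← map_mul, hsplit, hdv, map_zero, LinearMap.zero_apply, zero_add, ← orb_mk hR.1 hwQ, ← psi_apply,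
      psi_swap hI hR hvQ hwQ, map_mul (AdjoinRoot.mk (hat P ^ e)), map_mul (tau hR), ht', tau_tau, ← hb', ← map_mul,
      psi_apply, orb_mk hR.1 hvQ, mul_assoc] at h
    exact (mul_eq_zero.mp h).resolve_left (left_ne_zero_of_mul_eq_one hI.sq))
  obtain ⟨d, rfl⟩ := hb2
  have hb3 : star P ^ e ∣ b := by
    have h := congrArg (tau hR) hb'
    rw [tau_tau, map_mul, map_mul, tau_reverse,
      show (P ^ e).reverse = C ((P ^ e).coeff 0) * star P ^ e by
        rw [← star_pow, star, UnitaryTwistPoly.tw, Polynomial.map_id, RingHom.id_apply, ← mul_assoc, ← C_mul,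
          mul_inv_cancel₀ hP0, C_1, one_mul], map_mul] at h
    obtain ⟨r, hr⟩ : AdjoinRoot.mk (hat P ^ e) (star P ^ e) ∣ AdjoinRoot.mk (hat P ^ e) b := by
      rw [← h]
      exact dvd_mul_of_dvd_left (dvd_mul_of_dvd_right (dvd_mul_left _ _) _) _
    obtain ⟨r, rfl⟩ := AdjoinRoot.mk_surjective r
    rw [← map_mul, AdjoinRoot.mk_eq_mk] at hr
    exact (dvd_sub_left (dvd_mul_right _ _)).mp (hdiv'.trans hr)
  rw [AdjoinRoot.mk_eq_zero, hp, mul_pow]
  exact hcop.symm.mul_dvd hb1 hb3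

/-- A generator with a non-degenerate functional. -/
theorem exists_generic [Finite K] {W : Submodule K V} (hg : ∀ x ∈ W, g x ∈ W) {P : K[X]} (hi : Irreducible P) (hP : IsRecip P)
    (hgen : GenP P) {e : ℕ} (he : 1 ≤ e) {v w : V} (hvW : v ∈ W) (hwW : w ∈ W) (hv : act g (P ^ e) v = 0)
    (hw : act g (P ^ e) w = 0) (hne : B (act g (P ^ (e - 1)) v) w ≠ 0) :
    ∃ S ≤ W, ∃ k : Key K, HasKey g B η S k := by
  set hR := hP.pow e
  set π := AdjoinRoot.mk (P ^ e) (P ^ (e - 1)) with hπ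
  by_cases hz : ∃ z ∈ W, act g (P ^ e) z = 0 ∧ ∃ t, psi g B hR.1 z z (π * t) ≠ 0
  · obtain ⟨z, hzW, hzk, t, ht⟩ := hz
    refine ⟨_, orb_range_le hg hR.1 hzW hzk, .gen P e, hgen, he, hR, z, hzk, fun a ha => ?_, rfl⟩
    refine nondeg_of_socle hi (psi g B hR.1 z z ∘ₗ LinearMap.mulRight K t) ht a fun r => ?_
    rw [LinearMap.comp_apply, LinearMap.mulRight_apply, mul_right_comm]
    exact ha _
  exfalso
  push Not at hz
  set γ := xinv (P ^ e) ^ (P ^ (e - 1)).natDegree * algebraMap K _ ((P ^ (e - 1)).coeff 0) with hγ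
  have hτπ : tau hR π = γ * π := tau_recip hR (hP.pow (e - 1))
  have hpol : ∀ t s, psi g B hR.1 v w (π * s * (t + algebraMap K _ η * γ * tau hR t)) = 0 := fun t s => by
    have hwk := orb_killed hR.1 hw (tau hR s)
    have h1 := hz _ (W.add_mem hvW (orb_mem hg hR.1 hwW hw (tau hR s))) (by rw [map_add, hv, hwk, add_zero]) t
    rw [psi_apply, orb_add_vec hR.1 hv hwk, map_add (B _), map_add B, LinearMap.add_apply, LinearMap.add_apply,
      ← psi_apply, ← psi_apply, ← psi_apply, ← psi_apply, hz v hvW hv t, hz _ (orb_mem hg hR.1 hwW hw _) hwk t,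
      zero_add, add_zero] at h1
    conv at h1 => lhs; arg 1; rw [← orb_one hR.1 hv]
    conv at h1 => lhs; arg 2; rw [← orb_one hR.1 hv]
    rw [psi_orb hI hR hw hv, psi_orb hI hR hv hw, psi_swap hI hR hv hw, tau_tau] at h1
    simp only [map_mul, map_one, mul_one, tau_tau, hτπ] at h1
    rw [mul_add, map_add, show π * s * t = π * t * s by ring,
      show π * s * (algebraMap K _ η * γ * tau hR t) = algebraMap K _ η * (γ * π * tau hR t * s) by ring,
      ← Algebra.smul_def, map_smul, smul_eq_mul]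
    linear_combination h1
  obtain ⟨t, ht⟩ : ∃ t, IsUnit (t + algebraMap K _ η * γ * tau hR t) := by
    rcases isUnit_or_nilpotent hi e (1 + algebraMap K _ η * γ) with h | h
    · exact ⟨1, by rwa [map_one, mul_one]⟩
    · refine ⟨AdjoinRoot.root (P ^ e), ?_⟩
      have h' : IsNilpotent ((1 + algebraMap K _ η * γ) * xinv (P ^ e)) := (Commute.all _ _).isNilpotent_mul_right h
      have h3 := h'.isUnit_add_left_of_commute (isUnit_sub_tau hgen hR) (Commute.all _ _)
      convert h3 using 1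
      rw [tau_root]; ring
  obtain ⟨u, hu⟩ := ht
  have h := hpol t ↑u⁻¹
  rw [← hu, mul_assoc, Units.inv_mul, mul_one, hπ, psi_pow_pred _ hv] at h
  exact hne h

/-- A signed generator. -/
theorem exists_signed (h2 : (2 : K) ≠ 0) {W : Submodule K V} (hg : ∀ x ∈ W, g x ∈ W) {c : K} (hc : c * c = 1)
    {e : ℕ} (he : 1 ≤ e) (hpar : η * (-1) ^ e = -1) {v w : V} (hvW : v ∈ W) (hwW : w ∈ W)
    (hv : act g ((X - C c) ^ e) v = 0) (hw : act g ((X - C c) ^ e) w = 0)
    (hne : B (act g ((X - C c) ^ (e - 1)) v) w ≠ 0) :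
    ∃ S ≤ W, ∃ k : Key K, HasKey g B η S k := by
  classical
  obtain ⟨z, hzW, hzk, hz⟩ : ∃ z ∈ W, act g ((X - C c) ^ e) z = 0 ∧ B (act g ((X - C c) ^ (e - 1)) z) z ≠ 0 := by
    by_contra hno
    push Not at hno
    have hR := (isRecip_linear hc).pow e
    have h1 := hno (v + w) (W.add_mem hvW hwW) (by rw [map_add, hv, hw, add_zero])
    rw [map_add (act g _), map_add (B _), map_add B, LinearMap.add_apply, LinearMap.add_apply, hno v hvW hv,
      hno w hwW hw, zero_add, add_zero] at h1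
    have e1 := psi_swap hI hR hv hw (AdjoinRoot.mk _ ((X - C c) ^ (e - 1)))
    rw [psi_pow_pred _ hw, tau_pi hc he, ← Algebra.smul_def, map_smul, smul_eq_mul, psi_pow_pred _ hv] at e1
    have hsgn : η * (-1) ^ (e - 1) = 1 := by
      rw [show e = e - 1 + 1 by omega, pow_succ] at hpar
      linear_combination -hpar
    exact hne (mul_left_cancel₀ h2 (by linear_combination h1 - e1 - (B (act g ((X - C c) ^ (e - 1)) v) w) * hsgn))
  exact ⟨_, orb_range_le hg ((monic_X_sub_C c).pow e) hzW hzk,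
    .sgn c e (decide (IsSquare (B (act g ((X - C c) ^ (e - 1)) z) z))), hc, he, hpar, z, hzk, hz,
    decide_eq_true_iff, rfl⟩

/-- Remove the self-pairing of the first vector. -/
theorem exists_isotropic [Finite K] (h2 : (2 : K) ≠ 0) {W : Submodule K V} (hg : ∀ x ∈ W, g x ∈ W) {c : K}
    (hc : c * c = 1) {e : ℕ} (he : 1 ≤ e) {v w : V} (hvW : v ∈ W) (hwW : w ∈ W)
    (hv : act g ((X - C c) ^ e) v = 0) (hw : act g ((X - C c) ^ e) w = 0)
    (hvv : B (act g ((X - C c) ^ (e - 1)) v) v = 0) (hww : B (act g ((X - C c) ^ (e - 1)) w) w = 0)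
    (hvw : B (act g ((X - C c) ^ (e - 1)) v) w ≠ 0) :
    ∃ v' ∈ W, act g ((X - C c) ^ e) v' = 0 ∧ psi g B ((monic_X_sub_C c).pow e) v' v' = 0 ∧
      B (act g ((X - C c) ^ (e - 1)) v') w = B (act g ((X - C c) ^ (e - 1)) v) w ∧
      B (act g ((X - C c) ^ (e - 1)) w) v' = B (act g ((X - C c) ^ (e - 1)) w) v := by
  set hR := (isRecip_linear hc).pow e
  set π := AdjoinRoot.mk ((X - C c) ^ e) ((X - C c) ^ (e - 1)) with hπ
  have hPi := irreducible_X_sub_C c
  set ψ := psi g B hR.1 v w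
  have hψπ : ψ π = B (act g ((X - C c) ^ (e - 1)) v) w := psi_pow_pred _ hv w
  have hnd := fun a => nondeg_of_socle (e := e) hPi ψ (by rw [hψπ]; exact hvw) a
  obtain ⟨α, hα⟩ := exists_riesz hR.1 ψ hnd (psi g B hR.1 v v)
  obtain ⟨β, hβ⟩ := exists_riesz hR.1 ψ hnd (psi g B hR.1 w w)
  obtain ⟨κ, hκ⟩ := exists_riesz hR.1 ψ hnd (ψ ∘ₗ (tau hR).toLinearMap)
  replace hκ : ∀ r, ψ (tau hR r) = ψ (r * κ) := hκ
  have hext : ∀ a b, (∀ r, ψ (r * a) = ψ (r * b)) → a = b := fun a b h => sub_eq_zero.mp (hnd _ fun r => by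
    rw [mul_sub, map_sub, h, sub_self])
  set ηR := algebraMap K (AdjoinRoot ((X - C c) ^ e)) η with hηR
  have hη : ηR * ηR = 1 := by rw [hηR, ← map_mul, hI.sq, map_one]
  have hκκ : κ * tau hR κ = 1 := (hext _ _ fun r => by
    calc ψ (r * (κ * tau hR κ)) = ψ (r * tau hR κ * κ) := by ring_nf
      _ = ψ (tau hR (r * tau hR κ)) := (hκ _).symm
      _ = ψ (tau hR r * κ) := by rw [map_mul (tau hR), tau_tau]
      _ = ψ (r * 1) := by rw [← hκ, tau_tau, mul_one])
  have hsym : ∀ (z : V) (γ : AdjoinRoot ((X - C c) ^ e)), act g ((X - C c) ^ e) z = 0 →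
      (∀ r, psi g B hR.1 z z r = ψ (r * γ)) → κ * tau hR γ = ηR * γ := by
    intro z γ hz hγ
    refine hext _ _ fun r => ?_
    calc ψ (r * (κ * tau hR γ)) = ψ (r * tau hR γ * κ) := by ring_nf
      _ = ψ (tau hR (r * tau hR γ)) := (hκ _).symm
      _ = psi g B hR.1 z z (tau hR r) := by rw [map_mul (tau hR), tau_tau, hγ]
      _ = η * psi g B hR.1 z z r := psi_tau_self hI hR hz r
      _ = ψ (r * (ηR * γ)) := by rw [hγ, ← smul_eq_mul, ← map_smul, Algebra.smul_def, hηR]; ring_nf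
  have hαs := hsym v α hv hα
  have hβs := hsym w β hw hβ
  have hαn : IsNilpotent α := by
    refine (isUnit_or_nilpotent hPi e α).resolve_left fun hu => hvw ?_
    obtain ⟨b, rfl⟩ := AdjoinRoot.mk_surjective α
    obtain ⟨b', hb'⟩ : (X - C c) ∣ b - C (b.eval c) := dvd_iff_isRoot.mpr (by simp)
    have h := hα π
    rw [hπ, psi_pow_pred _ hv, hvv, show b = (X - C c) * b' + C (b.eval c) by rw [← hb', sub_add_cancel], map_add,
      mul_add, mk_pow_pred_mul he, zero_add, AdjoinRoot.mk_C, ← AdjoinRoot.algebraMap_eq, ← Algebra.commutes,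
      ← Algebra.smul_def, map_smul, smul_eq_mul] at h
    rcases mul_eq_zero.mp h.symm with h0 | h0
    · exfalso
      obtain ⟨u, hu'⟩ := hu
      have hnil : IsNilpotent (AdjoinRoot.mk ((X - C c) ^ e) b) := ⟨e, by
        rw [← map_pow, AdjoinRoot.mk_eq_zero]
        exact pow_dvd_pow_of_dvd (dvd_iff_isRoot.mpr h0) e⟩
      have : Nontrivial (AdjoinRoot ((X - C c) ^ e)) := AdjoinRoot.nontrivial _ (by
        rw [degree_eq_natDegree hR.1.ne_zero, natDegree_pow, natDegree_X_sub_C, mul_one]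
        exact_mod_cast (by omega : e ≠ 0))
      exact hnil.not_isUnit ⟨u, hu'⟩
    · rw [← hψπ]; exact h0
  -- the fixed point
  let Y := {y : AdjoinRoot ((X - C c) ^ e) // IsNilpotent y ∧ κ * tau hR y = ηR * y}
  have hYfin : Finite Y := by
    have := finite_adjoinRoot' hR.1
    infer_instance
  have hτn : ∀ {y : AdjoinRoot ((X - C c) ^ e)}, IsNilpotent y → IsNilpotent (tau hR y) := fun h => h.map (tau hR)
  let G : Y → Y := fun y => ⟨2 * y.1 + y.1 * tau hR y.1 * β,
    (Commute.all _ _).isNilpotent_add ((Commute.all _ _).isNilpotent_mul_left y.2.1)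
      ((Commute.all _ _).isNilpotent_mul_right ((Commute.all _ _).isNilpotent_mul_right y.2.1)), by
    rw [map_add, map_mul, map_mul, map_mul, map_ofNat, tau_tau]
    linear_combination 2 * y.2.2 + tau hR y.1 * y.1 * hβs⟩
  have hGinj : Function.Injective G := by
    intro y y' h
    have h' : 2 * y.1 + y.1 * tau hR y.1 * β = 2 * y'.1 + y'.1 * tau hR y'.1 * β := congrArg Subtype.val h
    have ty : ∀ y : Y, tau hR y.1 = ηR * tau hR κ * y.1 := fun y => by
      linear_combination (tau hR κ) * y.2.2 - (tau hR y.1) * hκκ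
    have hzero : (y.1 - y'.1) * (2 + β * (tau hR y.1 + y'.1 * (ηR * tau hR κ))) = 0 := by
      linear_combination h' + β * y'.1 * ty y' - β * y'.1 * ty y
    have hn : IsNilpotent (β * (tau hR y.1 + y'.1 * (ηR * tau hR κ))) := (Commute.all _ _).isNilpotent_mul_left
      ((Commute.all _ _).isNilpotent_add (hτn y.2.1) ((Commute.all _ _).isNilpotent_mul_right y'.2.1))
    have hu2 : IsUnit (2 : AdjoinRoot ((X - C c) ^ e)) := by
      rw [← map_ofNat (algebraMap K (AdjoinRoot ((X - C c) ^ e))) 2]; exact (Ne.isUnit h2).map _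
    exact Subtype.ext (sub_eq_zero.mp ((hn.isUnit_add_left_of_commute hu2 (Commute.all _ _)).mul_left_eq_zero.mp hzero))
  obtain ⟨⟨y, hyn, hys⟩, hy⟩ := (Finite.injective_iff_surjective.mp hGinj)
    ⟨-α, hαn.neg, by rw [map_neg, mul_neg, mul_neg, hαs]⟩
  replace hy : 2 * y + y * tau hR y * β = -α := congrArg Subtype.val hy
  have hzn : IsNilpotent (tau hR y) := hτn hyn
  have hzk := orb_killed hR.1 hw (tau hR y)
  refine ⟨v + orb g hR.1 w (tau hR y), W.add_mem hvW (orb_mem hg hR.1 hwW hw _), by rw [map_add, hv, hzk, add_zero],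
    LinearMap.ext fun r => ?_, ?_, ?_⟩
  · have e1 : ∀ r, psi g B hR.1 v (orb g hR.1 w (tau hR y)) r = ψ (r * y) := fun r => by
      conv_lhs => rw [← orb_one hR.1 hv]
      rw [psi_orb hI hR hv hw, mul_one, tau_tau]
    have e2 : psi g B hR.1 (orb g hR.1 w (tau hR y)) v r = ψ (r * (ηR * κ * tau hR y)) := by
      rw [psi_swap hI hR hv hzk, e1, show tau hR r * y = tau hR (r * tau hR y) by rw [map_mul, tau_tau], hκ,
        ← smul_eq_mul, ← map_smul, Algebra.smul_def, hηR]
      ring_nf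
    rw [LinearMap.zero_apply, psi_apply, orb_add_vec hR.1 hv hzk, map_add (B _), map_add B, LinearMap.add_apply,
      LinearMap.add_apply, ← psi_apply, ← psi_apply, ← psi_apply, ← psi_apply, e1, e2, psi_orb hI hR hw hw, tau_tau,
      hα, hβ, ← map_add, ← map_add, ← map_add]
    convert map_zero ψ using 2
    linear_combination r * hy + r * ηR * hys + r * y * hη
  · rw [← psi_pow_pred hR.1 (by rw [map_add, hv, hzk, add_zero]), ← psi_pow_pred hR.1 hv]
    rw [psi_apply, orb_add_vec hR.1 hv hzk, map_add B, LinearMap.add_apply, orb_orb hR.1 hw, ← hπ,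
      pi_mul_nilpotent hPi he hzn, map_zero, map_zero B, LinearMap.zero_apply, add_zero]
    rfl
  · rw [map_add (B _), add_eq_left, ← psi_pow_pred hR.1 hw, ← hπ]
    rw [psi_apply, form_orb hI hR hw hw, tau_tau, pi_mul_nilpotent hPi he hyn, map_zero]

/-- An unsigned pair. -/
theorem exists_unsigned [Finite K] (h2 : (2 : K) ≠ 0) {W : Submodule K V} (hg : ∀ x ∈ W, g x ∈ W) {c : K}
    (hc : c * c = 1) {e : ℕ} (he : 1 ≤ e) (hpar : η * (-1) ^ e = 1) {v w : V} (hvW : v ∈ W) (hwW : w ∈ W)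
    (hv : act g ((X - C c) ^ e) v = 0) (hw : act g ((X - C c) ^ e) w = 0)
    (hne : B (act g ((X - C c) ^ (e - 1)) v) w ≠ 0) :
    ∃ S ≤ W, ∃ k : Key K, HasKey g B η S k := by
  set hR := (isRecip_linear hc).pow e
  have hsgn : η * (-1) ^ (e - 1) = -1 := by
    rw [show e = e - 1 + 1 by omega, pow_succ] at hpar
    linear_combination -hpar
  have hsw : ∀ x y, act g ((X - C c) ^ e) x = 0 → act g ((X - C c) ^ e) y = 0 →
      B (act g ((X - C c) ^ (e - 1)) y) x = -B (act g ((X - C c) ^ (e - 1)) x) y := fun x y hx hy => by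
    have e1 := psi_swap hI hR hx hy (AdjoinRoot.mk _ ((X - C c) ^ (e - 1)))
    rw [psi_pow_pred _ hy, tau_pi hc he, ← Algebra.smul_def, map_smul, smul_eq_mul, psi_pow_pred _ hx] at e1
    linear_combination e1 + (B (act g ((X - C c) ^ (e - 1)) x) y) * hsgn
  have hself : ∀ x, act g ((X - C c) ^ e) x = 0 → B (act g ((X - C c) ^ (e - 1)) x) x = 0 := fun x hx =>
    mul_left_cancel₀ h2 (by linear_combination hsw x x hx hx)
  obtain ⟨v', hv'W, hv', hv'v', hv'w, hwv'⟩ := exists_isotropic hI h2 hg hc he hvW hwW hv hw (hself v hv) (hself w hw) hne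
  obtain ⟨w', hw'W, hw', hw'w', hw'v', hv'w'⟩ := exists_isotropic hI h2 hg hc he hwW hv'W hw hv' (hself w hw)
    (hself v' hv') (by rw [hsw v' w hv' hw, hv'w]; exact neg_ne_zero.mpr hne)
  refine ⟨_, sup_le (orb_range_le hg hR.1 hv'W hv') (orb_range_le hg hR.1 hw'W hw'), .pr c e, hc, he, hpar, v', w', hv', hw',
    hv'v', hw'w', ?_, ?_, rfl⟩
  · rw [hv'w', hv'w]; exact hne
  · rw [hw'v', hsw v' w hv' hw, hv'w]; exact neg_ne_zero.mpr hne

/-- Every non-zero non-degenerate invariant subspace has a summand. -/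
theorem exists_key [Finite K] (h2 : (2 : K) ≠ 0) {W : Submodule K V} (hg : ∀ x ∈ W, g x ∈ W) (hW : Nd B W)
    (hne : W ≠ ⊥) : ∃ S ≤ W, ∃ k : Key K, HasKey g B η S k := by
  obtain ⟨P, hm, hi, h0, hy⟩ := exists_irreducible_killer hg hne
  obtain ⟨e, he, v, hvW, w, hwW, hv, hw, hvw⟩ := exists_partner hI hg hW hm h0 hy
  by_cases hpm : ∃ c : K, c * c = 1 ∧ P.eval c = 0
  · obtain ⟨c, hc, hPc⟩ := hpm
    obtain rfl : P = X - C c := eq_of_monic_of_associated hm (monic_X_sub_C c)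
      ((irreducible_X_sub_C c).associated_of_dvd hi (dvd_iff_isRoot.mpr hPc)).symm
    have hl := isRecip_linear hc
    have hsl : star (X - C c) = X - C c := by
      rw [star, UnitaryTwistPoly.tw, Polynomial.map_id, RingHom.id_apply, hl.2.2, ← mul_assoc, ← C_mul,
        inv_mul_cancel₀ hl.2.1, C_1, one_mul]
    rw [hsl] at hw
    rcases mul_self_eq_one_iff.mp (show (η * (-1) ^ e) * (η * (-1) ^ e) = 1 by
      rw [mul_mul_mul_comm, hI.sq, ← mul_pow, neg_mul_neg, one_mul, one_mul, one_pow]) with h | h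
    · exact exists_unsigned hI h2 hg hc he h hvW hwW hv hw hvw
    · exact exists_signed hI h2 hg hc he h hvW hwW hv hw hvw
  push Not at hpm
  have h1 := hpm 1 (one_mul 1)
  have hn1 := hpm (-1) (by rw [neg_mul_neg, one_mul])
  by_cases hs : star P = P
  · rw [hs] at hw
    exact exists_generic hI hg hi (isRecip_of_star hm h0 hs) ⟨P, hm, hi, h0, h1, hn1, by rw [hat, if_pos hs]⟩ he
      hvW hwW hv hw hvw
  · exact exists_key_hyperbolic hI hg hm hi h0 hs h1 hn1 he hvW hwW hv hw hvw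

end CfsgLib.Classical.SpClassBound
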