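import Cfsg.Agent.Lib.Classical.SpClassBound.Keys

/-!
Summands of one type are isometric; decompositions of one type give conjugate isometries.
-/

set_option autoImplicit false
set_option linter.style.haveILetI false
set_option linter.unusedSectionVars false

namespace CfsgLib.Classical.SpClassBound

open Polynomial Module

variable {K : Type*} [Field K] {V : Type*} [AddCommGroup V] [Module K V] [FiniteDimensional K V]
  {g g' : V ≃ₗ[K] V} {B : LinearMap.BilinForm K V} {η : K}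

/-- An isometry between invariant subspaces, by its graph. -/
def GIso (g g' : V ≃ₗ[K] V) (B : LinearMap.BilinForm K V) (S S' : Submodule K V) : Prop :=
  ∃ Γ : Submodule K (V × V), Γ.map (LinearMap.fst K V V) = S ∧ Γ.map (LinearMap.snd K V V) = S' ∧
    (∀ p ∈ Γ, (g p.1, g' p.2) ∈ Γ) ∧ ∀ p ∈ Γ, ∀ r ∈ Γ, B p.1 r.1 = B p.2 r.2

theorem GIso.bot : GIso g g' B ⊥ ⊥ := by
  refine ⟨⊥, Submodule.map_bot _, Submodule.map_bot _, fun p hp => ?_, fun p hp r _ => ?_⟩
  · rw [Submodule.mem_bot] at hp ⊢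
    simp [hp]
  · rw [Submodule.mem_bot] at hp
    simp [hp]

theorem GIso.glue (hI : Isom B g η) {S S' W W' : Submodule K V} (h1 : GIso g g' B S S') (h2 : GIso g g' B W W')
    (ho : ∀ s ∈ S, ∀ w ∈ W, B s w = 0) (ho' : ∀ s ∈ S', ∀ w ∈ W', B s w = 0) :
    GIso g g' B (S ⊔ W) (S' ⊔ W') := by
  obtain ⟨Γ, rfl, rfl, hg, hB⟩ := h1
  obtain ⟨Δ, rfl, rfl, hg', hB'⟩ := h2
  refine ⟨Γ ⊔ Δ, Submodule.map_sup _ _ _, Submodule.map_sup _ _ _, fun p hp => ?_, fun p hp r hr => ?_⟩
  · obtain ⟨a, ha, b, hb, rfl⟩ := Submodule.mem_sup.mp hp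
    have e : (g (a + b).1, g' (a + b).2) = (g a.1, g' a.2) + (g b.1, g' b.2) := by
      simp [Prod.mk_add_mk]
    rw [e]
    exact Submodule.add_mem_sup (hg a ha) (hg' b hb)
  · obtain ⟨a, ha, b, hb, rfl⟩ := Submodule.mem_sup.mp hp
    obtain ⟨c, hc, d, hd, rfl⟩ := Submodule.mem_sup.mp hr
    have o1 := ho _ (Submodule.mem_map_of_mem ha) _ (Submodule.mem_map_of_mem hd)
    have o2 := hI.symm_zero (ho _ (Submodule.mem_map_of_mem hc) _ (Submodule.mem_map_of_mem hb))
    have o3 := ho' _ (Submodule.mem_map_of_mem ha) _ (Submodule.mem_map_of_mem hd)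
    have o4 := hI.symm_zero (ho' _ (Submodule.mem_map_of_mem hc) _ (Submodule.mem_map_of_mem hb))
    simp only [LinearMap.fst_apply, LinearMap.snd_apply] at o1 o2 o3 o4
    simp only [Prod.fst_add, Prod.snd_add, map_add, LinearMap.add_apply, o1, o2, o3, o4, hB a ha c hc, hB' b hb d hd]

theorem giso_single (hI : Isom B g η) (hI' : Isom B g' η) {Q : K[X]} (hR : IsRecip Q) {v v' : V}
    (hv : act g Q v = 0) (hv' : act g' Q v' = 0) (h : ∀ r, psi g B hR.1 v v r = psi g' B hR.1 v' v' r) :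
    GIso g g' B (LinearMap.range (orb g hR.1 v)) (LinearMap.range (orb g' hR.1 v')) := by
  refine ⟨LinearMap.range ((orb g hR.1 v).prod (orb g' hR.1 v')), ?_, ?_, ?_, ?_⟩
  · rw [← LinearMap.range_comp, LinearMap.fst_prod]
  · rw [← LinearMap.range_comp, LinearMap.snd_prod]
  · rintro _ ⟨r, rfl⟩
    exact ⟨AdjoinRoot.root Q * r, by
      rw [LinearMap.prod_apply, Function.prod_apply, orb_root_mul hR.1 hv, orb_root_mul hR.1 hv']; rfl⟩
  · rintro _ ⟨r, rfl⟩ _ ⟨s, rfl⟩
    show B (orb g hR.1 v r) (orb g hR.1 v s) = B (orb g' hR.1 v' r) (orb g' hR.1 v' s)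
    rw [form_orb hI hR hv hv, form_orb hI' hR hv' hv', h]

theorem giso_pair (hI : Isom B g η) (hI' : Isom B g' η) {Q : K[X]} (hR : IsRecip Q) {v w v' w' : V}
    (hv : act g Q v = 0) (hw : act g Q w = 0) (hv' : act g' Q v' = 0) (hw' : act g' Q w' = 0)
    (hvv : ∀ r, psi g B hR.1 v v r = psi g' B hR.1 v' v' r) (hww : ∀ r, psi g B hR.1 w w r = psi g' B hR.1 w' w' r)
    (hvw : ∀ r, psi g B hR.1 v w r = psi g' B hR.1 v' w' r) :
    GIso g g' B (LinearMap.range (orb g hR.1 v) ⊔ LinearMap.range (orb g hR.1 w))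
      (LinearMap.range (orb g' hR.1 v') ⊔ LinearMap.range (orb g' hR.1 w')) := by
  set L := (orb g hR.1 v).coprod (orb g hR.1 w)
  set L' := (orb g' hR.1 v').coprod (orb g' hR.1 w')
  refine ⟨LinearMap.range (L.prod L'), ?_, ?_, ?_, ?_⟩
  · rw [← LinearMap.range_comp, LinearMap.fst_prod, LinearMap.range_coprod]
  · rw [← LinearMap.range_comp, LinearMap.snd_prod, LinearMap.range_coprod]
  · rintro _ ⟨⟨r, t⟩, rfl⟩
    refine ⟨(AdjoinRoot.root Q * r, AdjoinRoot.root Q * t), ?_⟩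
    simp only [L, L', LinearMap.prod_apply, Function.prod_apply, LinearMap.coprod_apply, map_add,
      orb_root_mul hR.1 hv, orb_root_mul hR.1 hv', orb_root_mul hR.1 hw, orb_root_mul hR.1 hw']
  · rintro _ ⟨⟨r, t⟩, rfl⟩ _ ⟨⟨s, u⟩, rfl⟩
    simp only [L, L', LinearMap.prod_apply, Function.prod_apply, LinearMap.coprod_apply, map_add, LinearMap.add_apply,
      form_orb hI hR hv hv, form_orb hI hR hv hw, form_orb hI hR hw hv, form_orb hI hR hw hw, form_orb hI' hR hv' hv',
      form_orb hI' hR hv' hw', form_orb hI' hR hw' hv', form_orb hI' hR hw' hw', psi_swap hI hR hv hw,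
      psi_swap hI' hR hv' hw', hvv, hww, hvw]

theorem unit_of_nondeg {Q : K[X]} [Finite (AdjoinRoot Q)] {ψ ψ' : AdjoinRoot Q →ₗ[K] K}
    (hψ' : ∀ a, (∀ r, ψ' (r * a) = 0) → a = 0) {u : AdjoinRoot Q} (hu : ∀ r, ψ' r = ψ (r * u)) : IsUnit u := by
  refine isUnit_of_mul_eq_zero_imp fun a ha => hψ' a fun r => ?_
  rw [hu, mul_assoc, ha, mul_zero, map_zero]

variable [Finite K]

theorem finite_adjoinRoot' {Q : K[X]} (hQ : Q.Monic) : Finite (AdjoinRoot Q) :=
  have := hQ.finite_adjoinRoot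
  Module.finite_of_finite K

/-- The multiplier between the functionals of two generators. -/
theorem exists_fixed_multiplier (hI : Isom B g η) (hI' : Isom B g' η) {Q : K[X]} (hR : IsRecip Q) {v v' : V}
    (hv : act g Q v = 0) (hv' : act g' Q v' = 0)
    (hnd : ∀ a, (∀ r, psi g B hR.1 v v (r * a) = 0) → a = 0)
    (hnd' : ∀ a, (∀ r, psi g' B hR.1 v' v' (r * a) = 0) → a = 0) :
    ∃ u, IsUnit u ∧ tau hR u = u ∧ ∀ r, psi g' B hR.1 v' v' r = psi g B hR.1 v v (r * u) := by
  have := finite_adjoinRoot' hR.1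
  obtain ⟨u, hu⟩ := exists_riesz hR.1 _ hnd (psi g' B hR.1 v' v')
  refine ⟨u, unit_of_nondeg hnd' hu, ?_, hu⟩
  refine sub_eq_zero.mp (hnd _ fun r => ?_)
  rw [mul_sub, map_sub, sub_eq_zero]
  calc psi g B hR.1 v v (r * tau hR u) = psi g B hR.1 v v (tau hR (tau hR r * u)) := by rw [map_mul (tau hR), tau_tau]
    _ = η * psi g B hR.1 v v (tau hR r * u) := psi_tau_self hI hR hv _
    _ = η * psi g' B hR.1 v' v' (tau hR r) := by rw [hu]
    _ = psi g B hR.1 v v (r * u) := by rw [psi_tau_self hI' hR hv', ← mul_assoc, hI.sq, one_mul, hu]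

theorem isUnit_sub_tau {p : K[X]} (hp : GenP p) {e : ℕ} (hR : IsRecip (p ^ e)) :
    IsUnit (AdjoinRoot.root (p ^ e) - tau hR (AdjoinRoot.root (p ^ e))) := by
  have hx : IsUnit (xinv (p ^ e)) := IsUnit.of_mul_eq_one _ ((mul_comm _ _).trans (root_mul_xinv hR))
  have h2 : IsUnit (AdjoinRoot.mk (p ^ e) ((X - C 1) * (X - C (-1)))) :=
    isUnit_mk_of_coprime ((hp.isCoprime (by norm_num)).mul_left (hp.isCoprime (by norm_num))).pow_right
  convert hx.mul h2 using 1
  rw [tau_root, map_mul, map_sub, map_sub, AdjoinRoot.mk_X, AdjoinRoot.mk_C, AdjoinRoot.mk_C, map_one, map_neg, map_one]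
  linear_combination (-(AdjoinRoot.root (p ^ e))) * (root_mul_xinv hR)

/-- A symmetric unit with square value at the centre is a norm. -/
theorem exists_sqrt (h2 : (2 : K) ≠ 0) {c : K} (hc : c * c = 1) {e : ℕ} (he : 1 ≤ e)
    (u : AdjoinRoot ((X - C c) ^ e)) (hfix : tau ((isRecip_linear hc).pow e) u = u)
    (ψ : AdjoinRoot ((X - C c) ^ e) →ₗ[K] K) (hψ : ψ (AdjoinRoot.mk _ ((X - C c) ^ (e - 1))) ≠ 0) {t : K} (ht : t ≠ 0)
    (hu : ψ (AdjoinRoot.mk _ ((X - C c) ^ (e - 1)) * u) = t * t * ψ (AdjoinRoot.mk _ ((X - C c) ^ (e - 1)))) :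
    ∃ z, IsUnit z ∧ z * tau ((isRecip_linear hc).pow e) z = u := by
  set hR := (isRecip_linear hc).pow e
  obtain ⟨p, hchar⟩ := CharP.exists K
  haveI : Fact p.Prime := ⟨CharP.char_is_prime K p⟩
  have hp2 : p ≠ 2 := by rintro rfl; exact h2 (CharP.cast_eq_zero K 2)
  have hd : ((X - C c) ^ e).natDegree = e := by rw [natDegree_pow, natDegree_X_sub_C, mul_one]
  haveI : Nontrivial (AdjoinRoot ((X - C c) ^ e)) := AdjoinRoot.nontrivial _ (by
    rw [degree_eq_natDegree hR.1.ne_zero, hd]; exact_mod_cast (by omega : e ≠ 0))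
  haveI : CharP (AdjoinRoot ((X - C c) ^ e)) p :=
    charP_of_injective_algebraMap (algebraMap K (AdjoinRoot ((X - C c) ^ e))).injective p
  haveI := finite_adjoinRoot' hR.1
  obtain ⟨b, rfl⟩ := AdjoinRoot.mk_surjective u
  obtain ⟨b', hb'⟩ : (X - C c) ∣ b - C (b.eval c) := dvd_iff_isRoot.mpr (by simp)
  have hb : b = C (b.eval c) + (X - C c) * b' := by rw [← hb', add_sub_cancel]
  set a := b.eval c
  set j := AdjoinRoot.mk ((X - C c) ^ e) ((X - C c) * b') with hj
  have hu' : AdjoinRoot.mk ((X - C c) ^ e) b = algebraMap K _ a + j := by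
    conv_lhs => rw [hb]
    rw [map_add, AdjoinRoot.mk_C]; rfl
  have ha : a = t * t := by
    rw [hu', mul_add, hj, mk_pow_pred_mul he, add_zero, ← Algebra.commutes, ← Algebra.smul_def, map_smul,
      smul_eq_mul] at hu
    exact mul_right_cancel₀ hψ hu
  have hjn : IsNilpotent j := ⟨e, by
    rw [hj, ← map_pow, mul_pow, map_mul, AdjoinRoot.mk_self, zero_mul]⟩
  have hjf : tau hR j = j := by
    rw [hu', map_add, AlgHom.commutes] at hfix
    exact add_left_cancel hfix
  obtain ⟨s, hs, hsf⟩ := sqrt_one_add_nilpotent (tau hR).toRingHom (p := p) hp2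
    (j := algebraMap K _ (t * t)⁻¹ * j) ((Commute.all _ _).isNilpotent_mul_left hjn)
    (by show tau hR _ = _; rw [map_mul, AlgHom.commutes, hjf])
  replace hsf : tau hR s = s := hsf
  refine ⟨algebraMap K _ t * s, ?_, ?_⟩
  · refine (((Ne.isUnit ht).map _).mul ?_)
    exact isUnit_of_mul_isUnit_left (by rw [hs]; exact ((Commute.all _ _).isNilpotent_mul_left hjn).isUnit_one_add)
  · rw [map_mul, AlgHom.commutes, hsf, hu', ha, mul_mul_mul_comm, hs, ← map_mul, mul_add, mul_one, ← mul_assoc,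
      ← map_mul, mul_inv_cancel₀ (mul_ne_zero ht ht), map_one, one_mul]

theorem square_ratio {a a' : K} (ha : a ≠ 0) (ha' : a' ≠ 0) (hs : IsSquare a' ↔ IsSquare a) :
    ∃ t : K, t ≠ 0 ∧ a' = t * t * a := by
  classical
  letI := Fintype.ofFinite K
  obtain ⟨t, ht⟩ : IsSquare (a' / a) := by
    have hq : a' / a = a' * a * (a⁻¹ * a⁻¹) := by field_simp
    rw [hq]
    refine IsSquare.mul ?_ (IsSquare.mul_self _)
    by_cases h : IsSquare a
    · exact (hs.mpr h).mul h
    · have h1 : ¬ IsSquare a' := fun h' => h (hs.mp h')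
      rw [← quadraticChar_neg_one_iff_not_isSquare] at h h1
      exact (quadraticChar_one_iff_isSquare (mul_ne_zero ha' ha)).mp (by rw [map_mul, h, h1]; rfl)
  refine ⟨t, fun h => ?_, by rw [← ht, div_mul_cancel₀ _ ha]⟩
  rw [h, mul_zero, div_eq_zero_iff] at ht
  exact ht.elim ha' ha

/-- Summands of one type are isometric. -/
theorem hasKey_iso (h2 : (2 : K) ≠ 0) (hI : Isom B g η) (hI' : Isom B g' η) {S S' : Submodule K V} {k : Key K}
    (h : HasKey g B η S k) (h' : HasKey g' B η S' k) : GIso g g' B S S' := by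
  match k, h, h' with
  | .gen p e, ⟨hp, he, hR, v, hv, hnd, hS⟩, ⟨_, _, _, v', hv', hnd', hS'⟩ =>
    subst hS hS'
    have := finite_adjoinRoot' hR.1
    obtain ⟨u, hu, hfix, hr⟩ := exists_fixed_multiplier hI hI' hR hv hv' hnd hnd'
    obtain ⟨z, hz, hzu⟩ := exists_norm_eq (tau hR).toRingHom (tau_tau hR) (isUnit_sub_tau hp hR) hu hfix
    obtain ⟨h1, h3, h4⟩ := exists_norm_generator hI hR hv hz hzu
    rw [← h3]
    exact giso_single hI hI' hR h1 hv' fun r => by rw [h4, hr]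
  | .sgn c e s, ⟨hc, he, _, v, hv, ha, hs, hS⟩, ⟨_, _, _, v', hv', ha', hs', hS'⟩ =>
    subst hS hS'
    have hR := (isRecip_linear hc).pow e
    have hnd := fun a => nondeg_of_socle (e := e) (irreducible_X_sub_C c) (psi g B hR.1 v v) (by rwa [psi_pow_pred _ hv]) a
    have hnd' := fun a => nondeg_of_socle (e := e) (irreducible_X_sub_C c) (psi g' B hR.1 v' v') (by rwa [psi_pow_pred _ hv']) a
    obtain ⟨u, hu, hfix, hr⟩ := exists_fixed_multiplier hI hI' hR hv hv' hnd hnd'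
    obtain ⟨t, ht, hta⟩ := square_ratio ha ha' (hs'.symm.trans hs)
    obtain ⟨z, hz, hzu⟩ := exists_sqrt h2 hc he u hfix (psi g B hR.1 v v) (by rwa [psi_pow_pred _ hv]) ht (by
      rw [← hr, psi_pow_pred _ hv', psi_pow_pred _ hv, hta])
    obtain ⟨h1, h3, h4⟩ := exists_norm_generator hI hR hv hz hzu
    show GIso g g' B (LinearMap.range (orb g hR.1 v)) (LinearMap.range (orb g' hR.1 v'))
    rw [← h3]
    exact giso_single hI hI' hR h1 hv' fun r => by rw [h4, hr]
  | .pr c e, ⟨hc, he, _, v, w, hv, hw, hvv, hww, hvw, hwv, hS⟩, ⟨_, _, _, v', w', hv', hw', hvv', hww', hvw', hwv', hS'⟩ =>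
    subst hS hS'
    have hR := (isRecip_linear hc).pow e
    have := finite_adjoinRoot' hR.1
    have hnd := fun a => nondeg_of_socle (e := e) (irreducible_X_sub_C c) (psi g B hR.1 v w) (by rwa [psi_pow_pred _ hv]) a
    have hnd' := fun a => nondeg_of_socle (e := e) (irreducible_X_sub_C c) (psi g' B hR.1 v' w') (by rwa [psi_pow_pred _ hv']) a
    obtain ⟨u, hu⟩ := exists_riesz hR.1 _ hnd (psi g' B hR.1 v' w')
    obtain ⟨u, rfl⟩ := unit_of_nondeg hnd' hu
    set z := tau hR (u : AdjoinRoot ((X - C c) ^ e)) with hz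
    have hzu : IsUnit z := u.isUnit.map _
    have e1 : LinearMap.range (orb g hR.1 (orb g hR.1 w z)) = LinearMap.range (orb g hR.1 w) := by
      obtain ⟨zu, hzu'⟩ := hzu
      ext x
      constructor
      · rintro ⟨r, rfl⟩
        exact ⟨r * z, (orb_orb hR.1 hw _ _).symm⟩
      · rintro ⟨r, rfl⟩
        exact ⟨r * ↑zu⁻¹, by rw [orb_orb hR.1 hw, mul_assoc, ← hzu', Units.inv_mul, mul_one]⟩
    show GIso g g' B (LinearMap.range (orb g hR.1 v) ⊔ LinearMap.range (orb g hR.1 w))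
      (LinearMap.range (orb g' hR.1 v') ⊔ LinearMap.range (orb g' hR.1 w'))
    rw [← e1]
    refine giso_pair hI hI' hR hv (orb_killed hR.1 hw _) hv' hw' (fun r => by rw [hvv, hvv']) (fun r => ?_) fun r => ?_
    · rw [hww', psi_orb hI hR hw hw, hww]; rfl
    · conv_lhs => rw [← orb_one hR.1 hv]
      rw [psi_orb hI hR hv hw, mul_one, hz, tau_tau, hu]

/-- Orthogonal decompositions into summands of given types. -/
inductive Decomp (g : V ≃ₗ[K] V) (B : LinearMap.BilinForm K V) (η : K) : Submodule K V → List (Key K) → Prop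
  | nil : Decomp g B η ⊥ []
  | cons {S W : Submodule K V} {k : Key K} {l : List (Key K)} : HasKey g B η S k → Decomp g B η W l →
      (∀ s ∈ S, ∀ w ∈ W, B s w = 0) → Decomp g B η (S ⊔ W) (k :: l)

theorem Decomp.perm (hI : Isom B g η) {l l' : List (Key K)} (hp : l.Perm l') :
    ∀ {W : Submodule K V}, Decomp g B η W l → Decomp g B η W l' := by
  induction hp with
  | nil => exact fun h => h
  | cons k _ ih =>
    intro W h
    cases h with
    | cons h1 h3 ho => exact .cons h1 (ih h3) ho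
  | swap k k' l =>
    intro W h
    cases h with
    | @cons S _ _ _ h1 h3 ho =>
      cases h3 with
      | @cons S' W' _ _ h4 h5 ho' =>
        rw [sup_left_comm]
        refine .cons h4 (.cons h1 h5 fun s hs w hw => ho s hs w (Submodule.mem_sup_right hw)) fun s hs w hw => ?_
        obtain ⟨x, hx, y, hy, rfl⟩ := Submodule.mem_sup.mp hw
        rw [map_add, hI.symm_zero (ho x hx s (Submodule.mem_sup_left hs)), ho' s hs y hy, add_zero]
  | trans _ _ ih1 ih2 => exact fun h => ih2 (ih1 h)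

theorem Decomp.iso (h2 : (2 : K) ≠ 0) (hI : Isom B g η) (hI' : Isom B g' η) {l : List (Key K)} :
    ∀ {W W' : Submodule K V}, Decomp g B η W l → Decomp g' B η W' l → GIso g g' B W W' := by
  induction l with
  | nil =>
    intro W W' h h'
    cases h; cases h'
    exact GIso.bot
  | cons k l ih =>
    intro W W' h h'
    cases h with
    | cons h1 h3 ho =>
      cases h' with
      | cons h1' h3' ho' => exact GIso.glue hI (hasKey_iso h2 hI hI' h1 h1') (ih h3 h3') ho ho'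

/-- A full graph is the graph of an isometry. -/
theorem GIso.exists_equiv (hI : Isom B g η) (h : GIso g g' B ⊤ ⊤) :
    ∃ f : V ≃ₗ[K] V, (∀ x, f (g x) = g' (f x)) ∧ ∀ x y, B (f x) (f y) = B x y := by
  obtain ⟨Γ, h1, h2, hg, hB⟩ := h
  have hs1 : ∀ x, ∃ y, (x, y) ∈ Γ := fun x => by
    obtain ⟨⟨a, b⟩, hp, rfl⟩ := (h1.ge Submodule.mem_top : x ∈ Γ.map (LinearMap.fst K V V))
    exact ⟨b, hp⟩
  have hs2 : ∀ y, ∃ x, (x, y) ∈ Γ := fun y => by
    obtain ⟨⟨a, b⟩, hp, rfl⟩ := (h2.ge Submodule.mem_top : y ∈ Γ.map (LinearMap.snd K V V))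
    exact ⟨a, hp⟩
  choose f hf using hs1
  have huniq : ∀ x y y', (x, y) ∈ Γ → (x, y') ∈ Γ → y = y' := fun x y y' ha hb => sub_eq_zero.mp (hI.nondeg _ fun z => by
    obtain ⟨t, ht⟩ := hs2 z
    have e1 : B x t = B y z := hB _ ha _ ht
    have e2 : B x t = B y' z := hB _ hb _ ht
    rw [map_sub, LinearMap.sub_apply, ← e1, ← e2, sub_self])
  let fl : V →ₗ[K] V :=
    { toFun := f
      map_add' := fun x y => huniq _ _ _ (hf _) (by simpa using add_mem (hf x) (hf y))
      map_smul' := fun c x => huniq _ _ _ (hf _) (by simpa using Γ.smul_mem c (hf x)) }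
  have hsurj : Function.Surjective fl := fun y => by
    obtain ⟨x, hx⟩ := hs2 y
    exact ⟨x, huniq _ _ _ (hf _) hx⟩
  exact ⟨LinearEquiv.ofBijective fl ⟨LinearMap.injective_iff_surjective.mpr hsurj, hsurj⟩,
    fun x => huniq _ _ _ (hf _) (hg _ (hf x)), fun x y => (hB _ (hf x) _ (hf y)).symm⟩

end CfsgLib.Classical.SpClassBound
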