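import Cfsg.Agent.Lib.Classical.SpClassBound.Orbit

/-!
The indecomposable orthogonal summands of an isometry, and isometries between them.
-/

set_option autoImplicit false
set_option linter.style.haveILetI false
set_option linter.unusedSectionVars false

namespace CfsgLib.Classical.SpClassBound

open Polynomial Module

variable {K : Type*} [Field K]

/-- The types of summands. -/
inductive Key (K : Type*) [Field K] where
  | gen (p : K[X]) (e : ℕ)
  | sgn (c : K) (e : ℕ) (s : Bool)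
  | pr (c : K) (e : ℕ)

/-- The dimension of a summand. -/
noncomputable def Key.dim : Key K → ℕ
  | .gen p e => e * p.natDegree
  | .sgn _ e _ => e
  | .pr _ e => 2 * e

open scoped _root_.Classical in
/-- The self-reciprocal polynomial over an irreducible one. -/
noncomputable def hat (P : K[X]) : K[X] := if star P = P then P else P * star P

/-- The bases of the general summands. -/
def GenP (p : K[X]) : Prop :=
  ∃ P : K[X], P.Monic ∧ Irreducible P ∧ P.coeff 0 ≠ 0 ∧ P.eval 1 ≠ 0 ∧ P.eval (-1) ≠ 0 ∧ p = hat P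

theorem hat_recip {P : K[X]} (hm : P.Monic) (h0 : P.coeff 0 ≠ 0) : IsRecip (hat P) := by
  rw [hat]
  split_ifs with h
  · exact isRecip_of_star hm h0 h
  · exact isRecip_mul_star hm h0

theorem GenP.recip {p : K[X]} (h : GenP p) : IsRecip p := by
  obtain ⟨P, hm, -, h0, -, -, rfl⟩ := h
  exact hat_recip hm h0

theorem star_eval_ne_zero {P : K[X]} (hm : P.Monic) (h0 : P.coeff 0 ≠ 0) {c : K} (hc : c * c = 1)
    (h : P.eval c ≠ 0) : (star P).eval c ≠ 0 := by
  intro hz
  have h1 : star (X - C c) ∣ star (star P) := UnitaryTwistPoly.tw_dvd _ (dvd_iff_isRoot.mpr hz)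
  have hl := isRecip_linear hc
  have hsl : star (X - C c) = X - C c := by
    rw [star, UnitaryTwistPoly.tw, Polynomial.map_id, RingHom.id_apply, hl.2.2, ← mul_assoc, ← C_mul,
      inv_mul_cancel₀ hl.2.1, C_1, one_mul]
  rw [hsl, show star (star P) = P from UnitaryTwistPoly.tw_tw _ (fun _ => rfl) hm h0] at h1
  exact h (dvd_iff_isRoot.mp h1)

theorem GenP.isCoprime {p : K[X]} (h : GenP p) {c : K} (hc : c * c = 1) : IsCoprime (X - C c) p := by
  obtain ⟨P, hm, -, h0, h1, h2, rfl⟩ := h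
  have hP : P.eval c ≠ 0 := by
    rcases mul_self_eq_one_iff.mp hc with rfl | rfl
    · exact h1
    · exact h2
  refine (irreducible_X_sub_C c).coprime_iff_not_dvd.mpr fun hd => ?_
  rw [hat] at hd
  split_ifs at hd with hs
  · exact hP (dvd_iff_isRoot.mp hd)
  · rw [dvd_iff_isRoot, IsRoot, eval_mul, mul_eq_zero] at hd
    exact hd.elim hP (star_eval_ne_zero hm h0 hc hP)

theorem mk_pow_pred_mul {P : K[X]} {e : ℕ} (he : 1 ≤ e) (b : K[X]) :
    AdjoinRoot.mk (P ^ e) (P ^ (e - 1)) * AdjoinRoot.mk (P ^ e) (P * b) = 0 := by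
  rw [← map_mul, ← mul_assoc, ← pow_succ, Nat.sub_add_cancel he, map_mul, AdjoinRoot.mk_self, zero_mul]

/-- A functional that is non-zero on the socle is non-degenerate. -/
theorem nondeg_of_socle {P : K[X]} (hi : Irreducible P) {e : ℕ} (ψ : AdjoinRoot (P ^ e) →ₗ[K] K)
    (hψ : ψ (AdjoinRoot.mk (P ^ e) (P ^ (e - 1))) ≠ 0) (a : AdjoinRoot (P ^ e)) (ha : ∀ r, ψ (r * a) = 0) :
    a = 0 := by
  classical
  obtain ⟨b, rfl⟩ := AdjoinRoot.mk_surjective a
  by_contra hne
  have hb0 : b ≠ 0 := fun h => hne (by rw [h, map_zero])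
  obtain ⟨j, u, hu, rfl⟩ := WfDvdMonoid.max_power_factor hb0 hi
  have hje : j < e := by
    by_contra hle
    exact hne (AdjoinRoot.mk_eq_zero.mpr (dvd_mul_of_dvd_left (pow_dvd_pow P (by omega)) u))
  obtain ⟨w, hw⟩ := isUnit_mk_of_coprime (Q := P ^ e) ((hi.coprime_iff_not_dvd.mpr hu).symm.pow_right)
  have h := ha (AdjoinRoot.mk (P ^ e) (P ^ (e - 1 - j)) * ↑w⁻¹)
  rw [map_mul (AdjoinRoot.mk (P ^ e)), mul_mul_mul_comm, ← map_mul (AdjoinRoot.mk (P ^ e)), ← pow_add,
    show e - 1 - j + j = e - 1 by omega, ← hw, Units.inv_mul, mul_one] at h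
  exact hψ h

variable {V : Type*} [AddCommGroup V] [Module K V] [FiniteDimensional K V]
  (g : V ≃ₗ[K] V) (B : LinearMap.BilinForm K V) (η : K)

/-- A subspace of a given type. -/
def HasKey (S : Submodule K V) : Key K → Prop
  | .gen p e => GenP p ∧ 1 ≤ e ∧ ∃ (hR : IsRecip (p ^ e)) (v : V), act g (p ^ e) v = 0 ∧
      (∀ a, (∀ r, psi g B hR.1 v v (r * a) = 0) → a = 0) ∧ S = LinearMap.range (orb g hR.1 v)
  | .sgn c e s => c * c = 1 ∧ 1 ≤ e ∧ η * (-1) ^ e = -1 ∧ ∃ v : V, act g ((X - C c) ^ e) v = 0 ∧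
      B (act g ((X - C c) ^ (e - 1)) v) v ≠ 0 ∧ (s = true ↔ IsSquare (B (act g ((X - C c) ^ (e - 1)) v) v)) ∧
      S = LinearMap.range (orb g ((monic_X_sub_C c).pow e) v)
  | .pr c e => c * c = 1 ∧ 1 ≤ e ∧ η * (-1) ^ e = 1 ∧ ∃ v w : V,
      act g ((X - C c) ^ e) v = 0 ∧ act g ((X - C c) ^ e) w = 0 ∧
      psi g B ((monic_X_sub_C c).pow e) v v = 0 ∧ psi g B ((monic_X_sub_C c).pow e) w w = 0 ∧
      B (act g ((X - C c) ^ (e - 1)) v) w ≠ 0 ∧ B (act g ((X - C c) ^ (e - 1)) w) v ≠ 0 ∧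
      S = LinearMap.range (orb g ((monic_X_sub_C c).pow e) v) ⊔ LinearMap.range (orb g ((monic_X_sub_C c).pow e) w)

/-- No vector is orthogonal to the whole subspace. -/
def Nd (S : Submodule K V) : Prop := ∀ x ∈ S, (∀ y ∈ S, B x y = 0) → x = 0

variable {g B η}

theorem orb_stable {Q : K[X]} (hQ : Q.Monic) {v : V} (hv : act g Q v = 0) :
    ∀ x ∈ LinearMap.range (orb g hQ v), g x ∈ LinearMap.range (orb g hQ v) := by
  rintro _ ⟨r, rfl⟩
  exact ⟨AdjoinRoot.root Q * r, orb_root_mul hQ hv r⟩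

theorem psi_pow_pred {P : K[X]} {e : ℕ} (hQ : (P ^ e).Monic) {v : V} (hv : act g (P ^ e) v = 0) (w : V) :
    psi g B hQ v w (AdjoinRoot.mk (P ^ e) (P ^ (e - 1))) = B (act g (P ^ (e - 1)) v) w := by
  rw [psi_apply, orb_mk hQ hv]

theorem finrank_adjoinRoot {Q : K[X]} (hQ : Q.Monic) : finrank K (AdjoinRoot Q) = Q.natDegree := by
  rw [(AdjoinRoot.powerBasis' hQ).finrank, AdjoinRoot.powerBasis'_dim]

variable (hI : Isom B g η)
include hI

theorem orb_range_facts {Q : K[X]} (hR : IsRecip Q) {v : V} (hv : act g Q v = 0)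
    (hnd : ∀ a, (∀ r, psi g B hR.1 v v (r * a) = 0) → a = 0) :
    (∀ x ∈ LinearMap.range (orb g hR.1 v), g x ∈ LinearMap.range (orb g hR.1 v)) ∧
      Nd B (LinearMap.range (orb g hR.1 v)) ∧ finrank K (LinearMap.range (orb g hR.1 v)) = Q.natDegree := by
  refine ⟨orb_stable hR.1 hv, ?_, ?_⟩
  · rintro _ ⟨a, rfl⟩ h
    rw [hnd a fun r => ?_, map_zero]
    have h1 := h _ ⟨tau hR r, rfl⟩
    rw [form_orb hI hR hv hv, tau_tau] at h1
    exact (congrArg _ (mul_comm r a)).trans h1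
  · rw [LinearMap.finrank_range_of_inj, finrank_adjoinRoot hR.1]
    refine (injective_iff_map_eq_zero (orb g hR.1 v)).mpr fun a ha => hnd a fun r => ?_
    rw [psi_apply, ← orb_orb hR.1 hv, ha]
    obtain ⟨b, rfl⟩ := AdjoinRoot.mk_surjective r
    rw [orb_mk hR.1 (map_zero _), map_zero, map_zero, LinearMap.zero_apply]

theorem hasKey_facts {S : Submodule K V} {k : Key K} (h : HasKey g B η S k) :
    (∀ x ∈ S, g x ∈ S) ∧ Nd B S ∧ finrank K S = k.dim := by
  match k, h with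
  | .gen p e, ⟨hp, he, hR, v, hv, hnd, hS⟩ =>
    subst hS
    obtain ⟨h1, h2, h3⟩ := orb_range_facts hI hR hv hnd
    exact ⟨h1, h2, by rw [h3, natDegree_pow]; rfl⟩
  | .sgn c e s, ⟨hc, he, hpar, v, hv, ha, hs, hS⟩ =>
    subst hS
    obtain ⟨h1, h2, h3⟩ := orb_range_facts hI ((isRecip_linear hc).pow e) hv (fun a => nondeg_of_socle
      (irreducible_X_sub_C c) _ (by rwa [psi_pow_pred _ hv]) a)
    exact ⟨h1, h2, by rw [h3, natDegree_pow, natDegree_X_sub_C, mul_one]; rfl⟩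
  | .pr c e, ⟨hc, he, hpar, v, w, hv, hw, hvv, hww, hvw, hwv, hS⟩ =>
    have hR := (isRecip_linear hc).pow e
    set φv := orb g hR.1 v
    set φw := orb g hR.1 w
    have hnd1 := fun a => nondeg_of_socle (e := e) (irreducible_X_sub_C c) (psi g B hR.1 v w) (by rwa [psi_pow_pred _ hv]) a
    have hnd2 := fun a => nondeg_of_socle (e := e) (irreducible_X_sub_C c) (psi g B hR.1 w v) (by rwa [psi_pow_pred _ hw]) a
    have key : ∀ a b, (∀ y ∈ S, B (φv a + φw b) y = 0) → a = 0 ∧ b = 0 := by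
      intro a b hy
      refine ⟨hnd1 a fun r => ?_, hnd2 b fun r => ?_⟩
      · have h1 := hy (φw (tau hR r)) (by rw [hS]; exact Submodule.mem_sup_right ⟨_, rfl⟩)
        rw [map_add, LinearMap.add_apply, form_orb hI hR hv hw, form_orb hI hR hw hw, hww, LinearMap.zero_apply,
          add_zero, tau_tau] at h1
        exact (congrArg _ (mul_comm r a)).trans h1
      · have h1 := hy (φv (tau hR r)) (by rw [hS]; exact Submodule.mem_sup_left ⟨_, rfl⟩)
        rw [map_add, LinearMap.add_apply, form_orb hI hR hv hv, form_orb hI hR hw hv, hvv, LinearMap.zero_apply,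
          zero_add, tau_tau] at h1
        exact (congrArg _ (mul_comm r b)).trans h1
    refine ⟨?_, ?_, ?_⟩
    · intro x hx
      rw [hS] at hx ⊢
      obtain ⟨x1, h1, x2, h2, rfl⟩ := Submodule.mem_sup.mp hx
      rw [map_add]
      exact Submodule.add_mem_sup (orb_stable hR.1 hv x1 h1) (orb_stable hR.1 hw x2 h2)
    · intro x hx hy
      rw [hS] at hx
      obtain ⟨_, ⟨a, rfl⟩, _, ⟨b, rfl⟩, rfl⟩ := Submodule.mem_sup.mp hx
      obtain ⟨rfl, rfl⟩ := key a b hy
      simp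
    · have hinj : Function.Injective (φv.coprod φw) := (injective_iff_map_eq_zero _).mpr fun ⟨a, b⟩ hab => by
        obtain ⟨rfl, rfl⟩ := key a b fun y _ => by
          rw [LinearMap.coprod_apply] at hab
          rw [hab, map_zero, LinearMap.zero_apply]
        rfl
      have := hR.1.finite_adjoinRoot
      rw [hS, ← LinearMap.range_coprod, LinearMap.finrank_range_of_inj hinj, Module.finrank_prod,
        finrank_adjoinRoot hR.1, natDegree_pow, natDegree_X_sub_C, mul_one, Key.dim, two_mul]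

/-- A new generator with a prescribed functional. -/
theorem exists_norm_generator {Q : K[X]} (hR : IsRecip Q) {v : V} (hv : act g Q v = 0)
    {u z : AdjoinRoot Q} (hz : IsUnit z) (hzu : z * tau hR z = u) :
    act g Q (orb g hR.1 v z) = 0 ∧ LinearMap.range (orb g hR.1 (orb g hR.1 v z)) = LinearMap.range (orb g hR.1 v) ∧
      ∀ r, psi g B hR.1 (orb g hR.1 v z) (orb g hR.1 v z) r = psi g B hR.1 v v (r * u) := by
  refine ⟨orb_killed hR.1 hv z, ?_, fun r => by rw [psi_orb hI hR hv hv, mul_assoc, hzu]⟩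
  obtain ⟨z, rfl⟩ := hz
  ext x
  constructor
  · rintro ⟨r, rfl⟩
    exact ⟨r * z, (orb_orb hR.1 hv _ _).symm⟩
  · rintro ⟨r, rfl⟩
    exact ⟨r * ↑z⁻¹, by rw [orb_orb hR.1 hv, mul_assoc, Units.inv_mul, mul_one]⟩

end CfsgLib.Classical.SpClassBound
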