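import Cfsg.Agent.Lib.Classical.SpClassBound.Code
import Cfsg.Agent.Lib.Classical.SpClassBound.Count
import Mathlib.LinearAlgebra.SymplecticGroup
import Mathlib.LinearAlgebra.Matrix.BilinearForm

/-!
Bounding the classes of a symplectic group.
-/

set_option autoImplicit false
set_option linter.style.haveILetI false
set_option linter.unusedSectionVars false

namespace CfsgLib.Classical.SpClassBound

open Polynomial Module Matrix

open scoped _root_.Classical

variable {K : Type*} [Field K]

theorem GenP.natDegree_pos {p : K[X]} (h : GenP p) : 0 < p.natDegree := by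
  obtain ⟨P, hm, hi, h0, -, -, rfl⟩ := h
  refine lt_of_lt_of_le hi.natDegree_pos (natDegree_le_of_dvd ?_ (hat_monic hm h0).ne_zero)
  rw [hat]
  split_ifs <;> simp

/-- Nothing is stored above the dimension. -/
theorem code_trivial {η : K} {l : List (Key K)} (hl : ∀ k ∈ l, k.Valid η) {e : ℕ}
    (he : (l.map Key.dim).sum < e) :
    codePoly l e = 1 ∧ ∀ c b, bit l c e b = false := by
  have hd : ∀ k ∈ l, k.dim < e := fun k hk => (List.le_sum_of_mem (List.mem_map_of_mem hk)).trans_lt he
  have hs : ∀ c b, l.count (Key.sgn c e b) = 0 := fun c b => List.count_eq_zero_of_not_mem fun h => by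
    simpa [Key.dim] using hd _ h
  have hp : ∀ c, l.count (Key.pr c e) = 0 := fun c => List.count_eq_zero_of_not_mem fun h => by
    have := hd _ h
    simp only [Key.dim] at this
    omega
  have hg : genProd l e = 1 := List.prod_eq_one fun x hx => by
    obtain ⟨k, hk, rfl⟩ := List.mem_map.mp hx
    match k, hl k hk, hd k hk with
    | .gen p e', ⟨hp', _⟩, h =>
      simp only [Key.genPart, Key.dim] at h ⊢
      refine if_neg fun he' => ?_
      subst he'
      exact absurd h (not_lt.mpr (Nat.le_mul_of_pos_right _ hp'.natDegree_pos))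
    | .sgn _ _ _, _, _ => rfl
    | .pr _ _, _, _ => rfl
  have hh : ∀ c, halfMult l c e = 0 := fun c => by simp [halfMult, hs, hp, ← List.count_pos_iff]
  refine ⟨by simp [codePoly, hg, hh], fun c b => ?_⟩
  simp [bit, hs, ← List.count_pos_iff]

/-- The bits vanish at odd sizes. -/
theorem bit_odd (h2 : (2 : K) ≠ 0) {l : List (Key K)} (hl : ∀ k ∈ l, k.Valid (-1 : K)) {e : ℕ} (he : Odd e)
    (c : K) (b : Bool) : bit l c e b = false := by
  have hs : ∀ d s, l.count (Key.sgn d e s) = 0 := fun d s => List.count_eq_zero_of_not_mem fun h => by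
    have h' := (hl _ h).2.2
    rw [he.neg_one_pow, neg_mul_neg, one_mul] at h'
    exact h2 (by linear_combination h')
  simp [bit, hs, ← List.count_pos_iff]

theorem sum_Icc_eq (f : ℕ → ℕ) : ∀ N : ℕ, ∑ e : Fin N, f (e.1 + 1) = ∑ e ∈ Finset.Icc 1 N, f e
  | 0 => by simp
  | N + 1 => by
    rw [Fin.sum_univ_castSucc, Finset.sum_Icc_succ_top (by omega), ← sum_Icc_eq f N]
    simp

theorem sum_Icc_even {f : ℕ → ℕ} (hf : ∀ e, Odd e → f e = 0) :
    ∀ M : ℕ, ∑ e ∈ Finset.Icc 1 (2 * M), f e = ∑ i : Fin M, f (2 * (i.1 + 1))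
  | 0 => by simp
  | M + 1 => by
    rw [Fin.sum_univ_castSucc, show 2 * (M + 1) = 2 * M + 1 + 1 by ring, Finset.sum_Icc_succ_top (by omega),
      Finset.sum_Icc_succ_top (by omega), sum_Icc_even hf M, hf (2 * M + 1) ⟨M, rfl⟩, add_zero]
    simp [mul_add]

/-- The code of a list. -/
noncomputable def code (m : ℕ) (l : List (Key K)) :
    (Fin (2 * m + 1 + 1) → K[X]) × (Fin (m + 1) → Fin 4 → Bool) :=
  (fun e => codePoly l (e.1 + 1), fun i => ![bit l 1 (2 * (i.1 + 1)) true, bit l 1 (2 * (i.1 + 1)) false,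
    bit l (-1) (2 * (i.1 + 1)) true, bit l (-1) (2 * (i.1 + 1)) false])

theorem code_mem (h2 : (2 : K) ≠ 0) (m : ℕ) {l : List (Key K)} (hl : ∀ k ∈ l, k.Valid (-1 : K)) (hn : Norm l)
    (hdim : (l.map Key.dim).sum = 2 * (m + 1)) :
    (∀ e, ∃ D, SympClassCount.IsPal D ((code m l).1 e)) ∧
      ∑ e, (e.1 + 1) * ((code m l).1 e).natDegree + ∑ i, 2 * ((i.1 + 1) * nbits ((code m l).2 i)) = 2 * (m + 1) := by
  refine ⟨fun e => codePoly_pal h2 hl _, ?_⟩
  have h := code_degree h2 hl hn (2 * (m + 1)) hdim.le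
  rw [hdim] at h
  simp only [mul_add, Finset.sum_add_distrib] at h
  have hb : ∑ e ∈ Finset.Icc 1 (2 * (m + 1)), e * bitWeight l e = ∑ i : Fin (m + 1), 2 * (i.1 + 1) * bitWeight l (2 * (i.1 + 1)) :=
    sum_Icc_even (f := fun e => e * bitWeight l e) (fun e he => by simp [bitWeight, bit_odd h2 hl he]) (m + 1)
  have hP : ∑ e : Fin (2 * m + 1 + 1), (e.1 + 1) * ((code m l).1 e).natDegree =
      ∑ e ∈ Finset.Icc 1 (2 * (m + 1)), e * (codePoly l e).natDegree := by
    rw [show 2 * (m + 1) = 2 * m + 1 + 1 by ring, ← sum_Icc_eq]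
    rfl
  have hB : ∑ i : Fin (m + 1), 2 * ((i.1 + 1) * nbits ((code m l).2 i)) =
      ∑ i : Fin (m + 1), 2 * (i.1 + 1) * bitWeight l (2 * (i.1 + 1)) :=
    Finset.sum_congr rfl fun i _ => by
      simp [nbits, code, Fin.sum_univ_four, bitWeight]
      ring
  rw [hP, hB, ← hb]
  exact h

theorem code_inj (h2 : (2 : K) ≠ 0) (m : ℕ) {l l' : List (Key K)} (hl : ∀ k ∈ l, k.Valid (-1 : K))
    (hl' : ∀ k ∈ l', k.Valid (-1 : K)) (hn : Norm l) (hn' : Norm l') (hdim : (l.map Key.dim).sum = 2 * (m + 1))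
    (hdim' : (l'.map Key.dim).sum = 2 * (m + 1)) (h : code m l = code m l') : l.Perm l' := by
  refine code_injective h2 hl hl' hn hn' (fun e he => ?_) fun e he hev b => ?_
  · by_cases hle : e ≤ 2 * (m + 1)
    · have := congrFun (congrArg Prod.fst h) ⟨e - 1, by omega⟩
      simpa [code, show e - 1 + 1 = e by omega] using this
    · rw [(code_trivial hl (e := e) (by omega)).1, (code_trivial hl' (e := e) (by omega)).1]
  · by_cases hle : e ≤ 2 * (m + 1)
    · obtain ⟨r, hr⟩ := hev
      have := congrFun (congrArg Prod.snd h) ⟨r - 1, by omega⟩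
      simp only [code, show 2 * (r - 1 + 1) = e by omega] at this
      cases b
      · exact ⟨congrFun this 1, congrFun this 3⟩
      · exact ⟨congrFun this 0, congrFun this 2⟩
    · simp [(code_trivial hl (e := e) (by omega)).2, (code_trivial hl' (e := e) (by omega)).2]

variable {n : ℕ}

/-- The alternating form. -/
noncomputable def form (K : Type*) [Field K] (n : ℕ) : LinearMap.BilinForm K (Fin n ⊕ Fin n → K) :=
  Matrix.toBilin' (Matrix.J (Fin n) K)

/-- A symplectic matrix as an automorphism. -/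
noncomputable def equiv (A : symplecticGroup (Fin n) K) : (Fin n ⊕ Fin n → K) ≃ₗ[K] (Fin n ⊕ Fin n → K) :=
  LinearEquiv.ofLinear (Matrix.toLin' A.1) (Matrix.toLin' (A⁻¹).1)
    (by rw [← Matrix.toLin'_mul, ← Submonoid.coe_mul, mul_inv_cancel, Submonoid.coe_one, Matrix.toLin'_one])
    (by rw [← Matrix.toLin'_mul, ← Submonoid.coe_mul, inv_mul_cancel, Submonoid.coe_one, Matrix.toLin'_one])

theorem equiv_apply (A : symplecticGroup (Fin n) K) (v : Fin n ⊕ Fin n → K) : equiv A v = A.1 *ᵥ v :=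
  Matrix.toLin'_apply A.1 v

theorem isom_equiv (A : symplecticGroup (Fin n) K) : Isom (form K n) (equiv A) (-1 : K) where
  symm u v := by
    simp only [form, Matrix.toBilin'_apply']
    rw [dotProduct_mulVec, ← mulVec_transpose, Matrix.J_transpose, neg_mulVec, neg_dotProduct, dotProduct_comm]
    ring
  sq := by ring
  nondeg u h := by
    refine dotProduct_eq_zero u fun w => ?_
    have hw := h (-(Matrix.J (Fin n) K *ᵥ w))
    simp only [form, Matrix.toBilin'_apply', mulVec_neg, mulVec_mulVec, Matrix.J_squared, neg_mulVec, neg_neg,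
      one_mulVec] at hw
    exact hw
  inv u v := by
    have h := SymplecticGroup.mem_iff'.mp A.2
    simp only [form, Matrix.toBilin'_apply', equiv_apply]
    conv_rhs => rw [← h]
    rw [← mulVec_mulVec, ← mulVec_mulVec, dotProduct_mulVec _ (A.1)ᵀ, vecMul_transpose]

theorem isConj_of_giso [Finite K] {A A' : symplecticGroup (Fin n) K}
    (h : GIso (equiv A) (equiv A') (form K n) ⊤ ⊤) : IsConj A A' := by
  obtain ⟨f, hfg, hfB⟩ := h.exists_equiv (isom_equiv A)
  set C := LinearMap.toMatrix' (f : (Fin n ⊕ Fin n → K) →ₗ[K] (Fin n ⊕ Fin n → K)) with hCdef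
  have hC : ∀ v, C *ᵥ v = f v := fun v => by
    rw [← Matrix.toLin'_apply, hCdef, Matrix.toLin'_toMatrix']
    rfl
  have hmem : C ∈ symplecticGroup (Fin n) K := by
    rw [SymplecticGroup.mem_iff']
    refine Matrix.toBilin'.injective ?_
    rw [← Matrix.toBilin'_comp, hCdef, Matrix.toLin'_toMatrix']
    exact LinearMap.ext₂ fun x y => by simpa [form] using hfB x y
  refine isConj_iff.mpr ⟨⟨C, hmem⟩, mul_inv_eq_iff_eq_mul.mpr (Subtype.ext ?_)⟩
  refine Matrix.toLin'.injective (LinearMap.ext fun x => ?_)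
  simp only [Submonoid.coe_mul, Matrix.toLin'_apply, ← mulVec_mulVec, ← equiv_apply, hC]
  exact hfg x

variable [Fintype K]

theorem exists_data (h2 : (2 : K) ≠ 0) (m : ℕ) (A : symplecticGroup (Fin (m + 1)) K) :
    ∃ l, Norm l ∧ Decomp (equiv A) (form K (m + 1)) (-1 : K) ⊤ l ∧ (∀ k ∈ l, k.Valid (-1 : K)) ∧
      (l.map Key.dim).sum = 2 * (m + 1) := by
  have hI := isom_equiv A
  obtain ⟨l, hn, hd⟩ := exists_decomp h2 hI _ ⊤ le_rfl (fun _ _ => Submodule.mem_top)
    (fun x _ hx => hI.nondeg x fun y => hx y Submodule.mem_top)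
  obtain ⟨hv, hf⟩ := hd.facts hI
  refine ⟨l, hn, hd, hv, ?_⟩
  rw [← hf, finrank_top, Module.finrank_fintype_fun_eq_card, Fintype.card_sum, Fintype.card_fin, two_mul]

/-- The classes of `Sp(2n, q)`, `q` odd, number at most `10.8 q ^ n`. -/
theorem card_conjClasses_le (h2 : (2 : K) ≠ 0) (m : ℕ) :
    5 * Nat.card (ConjClasses (symplecticGroup (Fin (m + 1)) K)) ≤ 54 * Fintype.card K ^ (m + 1) := by
  choose l hn hd hv hdim using fun c : ConjClasses (symplecticGroup (Fin (m + 1)) K) => exists_data h2 m c.out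
  let f : ConjClasses (symplecticGroup (Fin (m + 1)) K) → Codes K m := fun c =>
    ⟨code m (l c), code_mem h2 m (hv c) (hn c) (hdim c)⟩
  have hf : Function.Injective f := fun c c' h => by
    have hp := code_inj h2 m (hv c) (hv c') (hn c) (hn c') (hdim c) (hdim c') (congrArg Subtype.val h)
    have hc := isConj_of_giso (Decomp.iso h2 (isom_equiv c.out) (isom_equiv c'.out)
      ((hd c).perm (isom_equiv c.out) hp) (hd c'))
    have := ConjClasses.mk_eq_mk_iff_isConj.mpr hc
    rwa [show ConjClasses.mk c.out = c from Quotient.out_eq c, show ConjClasses.mk c'.out = c' from Quotient.out_eq c']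
      at this
  have hq3 : 3 ≤ Fintype.card K := by
    have h1 : 1 < Fintype.card K := Fintype.one_lt_card
    by_contra h
    refine h2 ?_
    have h2' : Fintype.card K = 2 := by omega
    simpa [h2'] using Nat.cast_card_eq_zero K
  obtain ⟨hfin, hle⟩ := card_codes (K := K) rfl hq3 m
  exact le_trans (Nat.mul_le_mul_left 5 (Nat.card_le_card_of_injective f hf)) hle

end CfsgLib.Classical.SpClassBound
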