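import Cfsg.Agent.Lib.Classical.SpClassBound.Ring

/-!
Orbits of vectors under an isometry, with their functionals.
-/

set_option autoImplicit false
set_option linter.style.haveILetI false
set_option linter.unusedSectionVars false

namespace CfsgLib.Classical.SpClassBound

open Polynomial Module

variable {K : Type*} [Field K] {V : Type*} [AddCommGroup V] [Module K V]

/-- An isometry of a non-degenerate symmetric or alternating form. -/
structure Isom (B : LinearMap.BilinForm K V) (g : V ≃ₗ[K] V) (η : K) : Prop where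
  symm : ∀ u v, B v u = η * B u v
  sq : η * η = 1
  nondeg : ∀ u, (∀ v, B u v = 0) → u = 0
  inv : ∀ u v, B (g u) (g v) = B u v

/-- A polynomial in `g`. -/
noncomputable def act (g : V ≃ₗ[K] V) (p : K[X]) : Module.End K V := aeval (g : Module.End K V) p

variable {g : V ≃ₗ[K] V}

theorem act_mul (p r : K[X]) (v : V) : act g (p * r) v = act g p (act g r v) := by
  rw [act, map_mul, Module.End.mul_apply]; rfl

theorem act_add (p r : K[X]) (v : V) : act g (p + r) v = act g p v + act g r v := by
  rw [act, map_add, LinearMap.add_apply]; rfl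

theorem act_X (v : V) : act g X v = g v := by rw [act, aeval_X]; rfl

theorem act_C (c : K) (v : V) : act g (C c) v = c • v := by
  rw [act, aeval_C, Module.algebraMap_end_apply]

theorem act_one (v : V) : act g 1 v = v := by rw [act, map_one, Module.End.one_apply]

theorem act_comm (p r : K[X]) (v : V) : act g p (act g r v) = act g r (act g p v) := by
  rw [← act_mul, ← act_mul, mul_comm]

theorem act_smul_left (c : K) (p : K[X]) (v : V) : act g (c • p) v = c • act g p v := by
  rw [act, map_smul, LinearMap.smul_apply]; rfl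

theorem act_g (p : K[X]) (v : V) : act g p (g v) = g (act g p v) := by
  rw [← act_X (g := g) v, act_comm, act_X]

theorem act_dvd {p r : K[X]} (h : p ∣ r) {v : V} (hv : act g p v = 0) : act g r v = 0 := by
  obtain ⟨s, rfl⟩ := h
  rw [mul_comm, act_mul, hv, map_zero]

variable {B : LinearMap.BilinForm K V} {η : K}

theorem Isom.symm_zero (hI : Isom B g η) {u v : V} (h : B u v = 0) : B v u = 0 := by rw [hI.symm, h, mul_zero]

theorem Isom.nondeg_right (hI : Isom B g η) {v : V} (h : ∀ u, B u v = 0) : v = 0 :=
  hI.nondeg v fun u => hI.symm_zero (h u)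

theorem Isom.apply_left (hI : Isom B g η) (u v : V) : B (g u) v = B u (g.symm v) := by
  rw [← hI.inv u (g.symm v), g.apply_symm_apply]

theorem Isom.apply_right (hI : Isom B g η) (u v : V) : B u (g v) = B (g.symm u) v := by
  rw [← hI.inv (g.symm u) v, g.apply_symm_apply]

theorem act_symm_comm (p : K[X]) (v : V) : act g.symm p (g v) = g (act g.symm p v) := by
  induction p using Polynomial.induction_on' generalizing v with
  | add p r hp hr => simp only [act_add, hp, hr, map_add]
  | monomial k c =>
    induction k generalizing v with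
    | zero => rw [monomial_zero_left, act_C, act_C, map_smul]
    | succ k ih =>
      rw [← monomial_mul_X, act_mul, act_mul, act_X, act_X, g.symm_apply_apply]
      conv_lhs => rw [← g.apply_symm_apply v, ih]

/-- The adjoint of a polynomial in `g` is the polynomial in the inverse. -/
theorem Isom.act_left (hI : Isom B g η) (p : K[X]) : ∀ u v, B (act g p u) v = B u (act g.symm p v) := by
  induction p using Polynomial.induction_on' with
  | add p r hp hr => intro u v; simp only [act_add, map_add, LinearMap.add_apply, hp, hr]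
  | monomial k c =>
    induction k with
    | zero => intro u v; rw [monomial_zero_left, act_C, act_C, map_smul, LinearMap.smul_apply, map_smul]
    | succ k ih =>
      intro u v
      rw [← monomial_mul_X, act_mul, act_mul, act_X, act_X, ih, hI.apply_left]
      rw [← act_g (g := g.symm)]

variable [FiniteDimensional K V]

/-- Inverting the variable reverses a polynomial. -/
theorem act_symm_reverse (p : K[X]) : ∃ u : V ≃ₗ[K] V, ∀ v, act g.symm p v = u (act g p.reverse v) := by
  classical
  let gu : (Module.End K V)ˣ := LinearMap.GeneralLinearGroup.ofLinearEquiv g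
  have hd : ∀ v, act g (X ^ p.natDegree) (act g.symm p v) = act g p.reverse v := by
    intro v
    have e : ((gu : Module.End K V)) ^ p.natDegree * aeval ((gu⁻¹ : (Module.End K V)ˣ) : Module.End K V) p =
        aeval (gu : Module.End K V) p.reverse := by
      rw [aeval_eq_sum_range, aeval_eq_sum_range' (n := p.natDegree + 1) (Nat.lt_succ_of_le (reverse_natDegree_le p)),
        Finset.mul_sum]
      conv_rhs => rw [← Finset.sum_range_reflect]
      refine Finset.sum_congr rfl fun i hi => ?_
      have hi' : i ≤ p.natDegree := Nat.le_of_lt_succ (Finset.mem_range.mp hi)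
      rw [mul_smul_comm, coeff_reverse, revAt_le (by omega),
        show p.natDegree - (p.natDegree + 1 - 1 - i) = i by omega,
        show p.natDegree + 1 - 1 - i = p.natDegree - i by omega]
      congr 1
      conv_lhs => rw [← Nat.sub_add_cancel hi', pow_add, mul_assoc]
      rw [← Units.val_pow_eq_pow_val gu i, ← Units.val_pow_eq_pow_val gu⁻¹ i, ← Units.val_mul, inv_pow, mul_inv_cancel,
        Units.val_one, mul_one]
    rw [act, map_pow, aeval_X, ← Module.End.mul_apply]
    exact LinearMap.congr_fun e v
  have hinj : Function.Injective (act g (X ^ p.natDegree)) := by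
    rw [act, map_pow, aeval_X, Module.End.coe_pow]
    exact g.injective.iterate _
  let P := LinearEquiv.ofBijective (act g (X ^ p.natDegree)) ⟨hinj, LinearMap.surjective_of_injective hinj⟩
  exact ⟨P.symm, fun v => P.eq_symm_apply.mpr (hd v)⟩

theorem act_symm_eq_zero_iff {p : K[X]} (h0 : p.coeff 0 ≠ 0) (v : V) :
    act g.symm p v = 0 ↔ act g (star p) v = 0 := by
  obtain ⟨u, hu⟩ := act_symm_reverse (g := g) p
  rw [hu, LinearEquiv.map_eq_zero_iff, star, UnitaryTwistPoly.tw, Polynomial.map_id, RingHom.id_apply, act_mul,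
    act_C, smul_eq_zero, or_iff_right (inv_ne_zero h0)]

variable {Q : K[X]}

/-- The orbit map of a vector killed by `Q`. -/
noncomputable def orb (g : V ≃ₗ[K] V) (hQ : Q.Monic) (v : V) : AdjoinRoot Q →ₗ[K] V :=
  (LinearMap.applyₗ v ∘ₗ (aeval (g : Module.End K V) : K[X] →ₐ[K] Module.End K V).toLinearMap) ∘ₗ
    AdjoinRoot.modByMonicHom hQ

theorem orb_mk (hQ : Q.Monic) {v : V} (hv : act g Q v = 0) (b : K[X]) :
    orb g hQ v (AdjoinRoot.mk Q b) = act g b v := by
  show act g (AdjoinRoot.modByMonicHom hQ (AdjoinRoot.mk Q b)) v = _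
  rw [AdjoinRoot.modByMonicHom_mk, modByMonic_eq_sub_mul_div, act, map_sub, map_mul, LinearMap.sub_apply,
    ← map_mul, mul_comm, map_mul, Module.End.mul_apply]
  show act g b v - act g (b /ₘ Q) (act g Q v) = _
  rw [hv, map_zero, sub_zero]

theorem orb_root_mul (hQ : Q.Monic) {v : V} (hv : act g Q v = 0) (r : AdjoinRoot Q) :
    orb g hQ v (AdjoinRoot.root Q * r) = g (orb g hQ v r) := by
  obtain ⟨b, rfl⟩ := AdjoinRoot.mk_surjective r
  rw [← AdjoinRoot.mk_X, ← map_mul, orb_mk hQ hv, orb_mk hQ hv, act_mul, act_X]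

theorem orb_one (hQ : Q.Monic) {v : V} (hv : act g Q v = 0) : orb g hQ v 1 = v := by
  rw [← map_one (AdjoinRoot.mk Q), orb_mk hQ hv, act_one]

theorem orb_killed (hQ : Q.Monic) {v : V} (hv : act g Q v = 0) (r : AdjoinRoot Q) :
    act g Q (orb g hQ v r) = 0 := by
  obtain ⟨b, rfl⟩ := AdjoinRoot.mk_surjective r
  rw [orb_mk hQ hv, act_comm, hv, map_zero]

theorem orb_orb (hQ : Q.Monic) {v : V} (hv : act g Q v = 0) (r s : AdjoinRoot Q) :
    orb g hQ (orb g hQ v r) s = orb g hQ v (s * r) := by
  obtain ⟨b, rfl⟩ := AdjoinRoot.mk_surjective s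
  obtain ⟨c, rfl⟩ := AdjoinRoot.mk_surjective r
  rw [orb_mk hQ (orb_killed hQ hv _), ← map_mul, orb_mk hQ hv, orb_mk hQ hv, act_mul]

theorem orb_add_vec (hQ : Q.Monic) {v w : V} (hv : act g Q v = 0) (hw : act g Q w = 0) (r : AdjoinRoot Q) :
    orb g hQ (v + w) r = orb g hQ v r + orb g hQ w r := by
  obtain ⟨b, rfl⟩ := AdjoinRoot.mk_surjective r
  rw [orb_mk hQ (by rw [map_add, hv, hw, add_zero]), orb_mk hQ hv, orb_mk hQ hw, map_add]

theorem orb_smul_vec (hQ : Q.Monic) {v : V} (hv : act g Q v = 0) (c : K) (r : AdjoinRoot Q) :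
    orb g hQ (c • v) r = c • orb g hQ v r := by
  obtain ⟨b, rfl⟩ := AdjoinRoot.mk_surjective r
  rw [orb_mk hQ (by rw [map_smul, hv, smul_zero]), orb_mk hQ hv, map_smul]

/-- The functional of a pair of vectors. -/
noncomputable def psi (g : V ≃ₗ[K] V) (B : LinearMap.BilinForm K V) (hQ : Q.Monic) (v w : V) :
    AdjoinRoot Q →ₗ[K] K := B.flip w ∘ₗ orb g hQ v

theorem psi_apply (hQ : Q.Monic) (v w : V) (r : AdjoinRoot Q) : psi g B hQ v w r = B (orb g hQ v r) w := rfl

variable (hI : Isom B g η) (hR : IsRecip Q)
include hI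

theorem form_orb {v w : V} (hv : act g Q v = 0) (hw : act g Q w = 0) (r s : AdjoinRoot Q) :
    B (orb g hR.1 v r) (orb g hR.1 w s) = psi g B hR.1 v w (r * tau hR s) := by
  obtain ⟨b, rfl⟩ := AdjoinRoot.mk_surjective s
  induction b using Polynomial.induction_on' generalizing r with
  | add p t hp ht => rw [map_add (AdjoinRoot.mk Q), map_add (tau hR), mul_add, map_add, map_add, map_add, hp, ht]
  | monomial k c =>
    induction k generalizing r with
    | zero =>
      rw [monomial_zero_left, orb_mk hR.1 hw, act_C, map_smul, AdjoinRoot.mk_C, ← AdjoinRoot.algebraMap_eq,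
        AlgHom.commutes, ← Algebra.commutes, ← Algebra.smul_def, map_smul, psi_apply]
    | succ k ih =>
      rw [← monomial_mul_X, show monomial k c * X = X * monomial k c from mul_comm _ _, map_mul (AdjoinRoot.mk Q), AdjoinRoot.mk_X, orb_root_mul hR.1 hw, map_mul (tau hR), tau_root,
        hI.apply_right, show g.symm (orb g hR.1 v r) = orb g hR.1 v (r * xinv Q) from ?_, ih]
      · congr 1; ring
      · rw [LinearEquiv.symm_apply_eq, ← orb_root_mul hR.1 hv,
          show AdjoinRoot.root Q * (r * xinv Q) = r by rw [mul_left_comm, root_mul_xinv hR, mul_one]]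

theorem psi_swap {v w : V} (hv : act g Q v = 0) (hw : act g Q w = 0) (r : AdjoinRoot Q) :
    psi g B hR.1 w v r = η * psi g B hR.1 v w (tau hR r) := by
  rw [psi_apply, hI.symm]
  conv_lhs => rw [← orb_one hR.1 hv]
  rw [form_orb hI hR hv hw, one_mul]

theorem psi_tau_self {v : V} (hv : act g Q v = 0) (r : AdjoinRoot Q) :
    psi g B hR.1 v v (tau hR r) = η * psi g B hR.1 v v r := by
  rw [psi_swap hI hR hv hv r, ← mul_assoc, hI.sq, one_mul]

theorem psi_orb {v w : V} (hv : act g Q v = 0) (hw : act g Q w = 0) (c d r : AdjoinRoot Q) :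
    psi g B hR.1 (orb g hR.1 v c) (orb g hR.1 w d) r = psi g B hR.1 v w (r * c * tau hR d) := by
  rw [psi_apply, orb_orb hR.1 hv, form_orb hI hR hv hw]

end CfsgLib.Classical.SpClassBound
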